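import Cfsg.Agent.E6Large.Bracket
import Cfsg.Agent.E6Fi22.DataBase

/-!
# Kernel checks: the generators preserve bracket and form
-/

set_option autoImplicit false
set_option maxRecDepth 100000
set_option Elab.async false

namespace Cfsg.Agent.E6Large

open Cfsg.Agent.E6Fi22

theorem len_ad : (List.range 79).all (fun x => (adE x).length == 78) = true ∧ fm.length = 78 := by
  decide +kernel

theorem form_ok : (List.range 12).all (fun i => formB (bm i)) = true := by decide +kernel

end Cfsg.Agent.E6Large
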