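import Cfsg.Agent.E6Large.Bracket
import Cfsg.Agent.E6Fi22.DataBase

/-!
# Kernel checks: the generators preserve bracket and form
-/

set_option autoImplicit false
set_option maxRecDepth 100000
set_option Elab.async false

namespace Cfsg.Agent.E6Large

open Cfsg.Agent.E6Fi22

theorem eqv_ok6 : (List.range 78).all (fun c => eqvB (bm 6) c) = true := by decide +kernel

theorem eqv_ok7 : (List.range 78).all (fun c => eqvB (bm 7) c) = true := by decide +kernel

theorem eqv_ok8 : (List.range 78).all (fun c => eqvB (bm 8) c) = true := by decide +kernel

end Cfsg.Agent.E6Large
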