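import Cfsg.Agent.E6Large.CheckEqv0
import Cfsg.Agent.E6Large.CheckEqv1
import Cfsg.Agent.E6Large.CheckEqv2
import Cfsg.Agent.E6Large.CheckEqv3
import Cfsg.Agent.E6Large.CheckAd
import Cfsg.Agent.E6Fi22.Rep
import Cfsg.Agent.E6Fi22.Main

/-!
# A bilinear bracket and a form preserved by `2E6(2)`
-/

set_option autoImplicit false
set_option maxRecDepth 100000

namespace Cfsg.Agent.E6Large

open Cfsg.Lie Cfsg.Agent.Chev Cfsg.Agent.E6Fi22
open scoped MatrixGroups Matrix

universe u

theorem good_ad : Good adE := good_of (n := 78) len_ad.1 fun x hx => by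
  simp only [adE]; rw [List.getD_eq_default _ _ (by simpa using hx)]; rfl

variable {K : Type u} [Field K]

/-- The adjoint action. -/
noncomputable def br (w : K) : (chevE6.Idx → K) →ₗ[K] Matrix chevE6.Idx chevE6.Idx K where
  toFun v := Matrix.of fun i j => (toMat w (adE (enc chevE6 j)) *ᵥ v) i
  map_add' u v := by ext i j; simp [Matrix.mulVec_add]
  map_smul' c v := by ext i j; simp [Matrix.mulVec_smul]

/-- The form. -/
noncomputable def frm (w : K) (u v : chevE6.Idx → K) : K := u ⬝ᵥ (toMat w fm *ᵥ v)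

variable [CharP K 2] {w : K} (hw : w ^ 2 = w + 1)

omit [CharP K 2] in
theorem brK_eq {α : Type} (P : Nat) (k : List Nat → α) :
    brK P k = k ((List.range 78).map fun j => mv (adE j) P) := by
  unfold brK
  generalize List.range 78 = l
  induction l generalizing k with
  | nil => rfl
  | cons j l ih =>
    show CosetCert.force (mvF (adE j) P) _ = _
    rw [CosetCert.force_eq, mvF_eq, ih]
    rfl

include hw in
theorem toMat_brK (P : Nat) :
    toMat w ((List.range 78).map fun j => mv (adE j) P) = br w (toVec w P) := by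
  ext i j
  show val w _ _ = _
  rw [List.getD_eq_getElem _ _ (by simpa using enc_lt78 j), List.getElem_map, List.getElem_range]
  exact congrFun (toVec_mv hw (good_ad _) P) i

theorem toVec_unit (w : K) (j : chevE6.Idx) :
    toVec w (Nat.shiftLeft 1 (enc chevE6 j)) = Pi.single j 1 := by
  funext i
  rw [toVec, val_one_shift w (enc_lt78 j), Pi.single_apply]
  by_cases h : i = j
  · subst h; simp
  · rw [if_neg h, if_neg fun e => h (enc_injective chevE6 e)]

/-- A matrix preserves bracket and form. -/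
structure Eqv (w : K) (g : GL chevE6.Idx K) : Prop where
  bracket : ∀ v, (g : Matrix chevE6.Idx chevE6.Idx K) * br w v = br w ((g : Matrix _ _ K) *ᵥ v) * g
  form : (g : Matrix chevE6.Idx chevE6.Idx K)ᵀ * toMat w fm * g = toMat w fm

include hw in
theorem eqv_bu (x : Nat) : Eqv w (bu hw x) := by
  by_cases hx : x < 12
  swap
  · rw [bu, dif_neg hx]
    exact ⟨fun v => by simp, by simp⟩
  have hb : (bu hw x : Matrix chevE6.Idx chevE6.Idx K) = toMat w (bm x) := bu_val hw hx
  constructor
  · intro v
    rw [hb]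
    have key : ((LinearMap.mulLeft K (toMat w (bm x))).comp (br w) : (chevE6.Idx → K) →ₗ[K] _) =
        (LinearMap.mulRight K (toMat w (bm x))).comp ((br w).comp (Matrix.mulVecLin (toMat w (bm x)))) := by
      refine LinearMap.pi_ext fun j c => ?_
      rw [show (Pi.single j c : chevE6.Idx → K) = c • Pi.single j 1 by
        rw [← Pi.single_smul, smul_eq_mul, mul_one], map_smul, map_smul]
      congr 1
      simp only [LinearMap.comp_apply, LinearMap.mulLeft_apply, LinearMap.mulRight_apply,
        Matrix.mulVecLin_apply]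
      have h : eqvB (bm x) (enc chevE6 j) = true := by
        have hm := List.mem_range.2 (enc_lt78 j)
        interval_cases x
        exacts [List.all_eq_true.1 eqv_ok0 _ hm, List.all_eq_true.1 eqv_ok1 _ hm,
          List.all_eq_true.1 eqv_ok2 _ hm, List.all_eq_true.1 eqv_ok3 _ hm, List.all_eq_true.1 eqv_ok4 _ hm,
          List.all_eq_true.1 eqv_ok5 _ hm, List.all_eq_true.1 eqv_ok6 _ hm, List.all_eq_true.1 eqv_ok7 _ hm,
          List.all_eq_true.1 eqv_ok8 _ hm, List.all_eq_true.1 eqv_ok9 _ hm, List.all_eq_true.1 eqv_ok10 _ hm,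
          List.all_eq_true.1 eqv_ok11 _ hm]
      rw [eqvB, brK_eq, brK_eq, mvF_eq] at h
      have h2 := mulMul_spec hw (good_bm x) (by simp) (by simp) (good_bm x) h
      rw [toMat_brK hw, toMat_brK hw, toVec_mv hw (good_bm x), toVec_unit] at h2
      exact h2
    exact LinearMap.congr_fun key v
  · rw [hb]
    have h := List.all_eq_true.1 form_ok x (List.mem_range.2 hx)
    rw [formB, mulF_eq] at h
    have h1 := trB_spec w h
    rw [toMat_mul hw len_ad.2 (good_bm x)] at h1
    have hf : (toMat w fm)ᵀ = toMat w fm := (trB_spec w fm_symm).symm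
    rw [Matrix.transpose_mul, hf] at h1
    rw [← h1, mul_assoc, bm_sq hw hx, mul_one]
where
  fm_symm : trB fm fm = true := by decide +kernel

variable (w) in
theorem eqv_mul {g h : GL chevE6.Idx K} (hg : Eqv w g) (hh : Eqv w h) : Eqv w (g * h) := by
  constructor
  · intro v
    rw [Units.val_mul, mul_assoc, hh.bracket, ← mul_assoc, hg.bracket, mul_assoc, Matrix.mulVec_mulVec]
  · calc ((g * h : GL chevE6.Idx K) : Matrix chevE6.Idx chevE6.Idx K)ᵀ * toMat w fm *
          ((g * h : GL chevE6.Idx K) : Matrix chevE6.Idx chevE6.Idx K)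
        = (h : Matrix chevE6.Idx chevE6.Idx K)ᵀ * ((g : Matrix chevE6.Idx chevE6.Idx K)ᵀ * toMat w fm *
          (g : Matrix chevE6.Idx chevE6.Idx K)) * (h : Matrix chevE6.Idx chevE6.Idx K) := by
          rw [Units.val_mul, Matrix.transpose_mul]; simp only [mul_assoc]
      _ = _ := by rw [hg.form, hh.form]

variable (w) in
theorem eqv_inv {g : GL chevE6.Idx K} (hg : Eqv w g) : Eqv w g⁻¹ := by
  have e1 : ((g⁻¹ : GL chevE6.Idx K) : Matrix chevE6.Idx chevE6.Idx K) *
      (g : Matrix chevE6.Idx chevE6.Idx K) = 1 := by rw [← Units.val_mul, inv_mul_cancel, Units.val_one]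
  have e2 : (g : Matrix chevE6.Idx chevE6.Idx K) *
      ((g⁻¹ : GL chevE6.Idx K) : Matrix chevE6.Idx chevE6.Idx K) = 1 := by
    rw [← Units.val_mul, mul_inv_cancel, Units.val_one]
  constructor
  · intro v
    have h := hg.bracket (((g⁻¹ : GL chevE6.Idx K) : Matrix chevE6.Idx chevE6.Idx K) *ᵥ v)
    rw [Matrix.mulVec_mulVec, e2, Matrix.one_mulVec] at h
    calc _ = ((g⁻¹ : GL chevE6.Idx K) : Matrix chevE6.Idx chevE6.Idx K) *
          (br w v * (g : Matrix chevE6.Idx chevE6.Idx K)) *
          ((g⁻¹ : GL chevE6.Idx K) : Matrix chevE6.Idx chevE6.Idx K) := by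
          simp only [mul_assoc, e2, mul_one]
      _ = _ := by rw [← h, ← mul_assoc, e1, one_mul]
  · calc _ = ((g⁻¹ : GL chevE6.Idx K) : Matrix chevE6.Idx chevE6.Idx K)ᵀ *
          ((g : Matrix chevE6.Idx chevE6.Idx K)ᵀ * toMat w fm * (g : Matrix chevE6.Idx chevE6.Idx K)) *
          ((g⁻¹ : GL chevE6.Idx K) : Matrix chevE6.Idx chevE6.Idx K) := by rw [hg.form]
      _ = _ := by
        rw [← mul_assoc, ← mul_assoc, ← Matrix.transpose_mul, e2, Matrix.transpose_one, one_mul, mul_assoc, e2, mul_one]

include hw in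
/-- The twelve generators generate the group. -/
theorem twisted_le [Fintype K] (hK : Fintype.card K = 4) :
    twistedE6 K 2 ≤ Subgroup.closure (Set.range (bu hw)) := by
  rw [twistedE6, ChevalleyDatum.genSubgroup, Subgroup.closure_le]
  rintro g ⟨l, hl, hg⟩
  classical
  have h4 : ∀ t : K, t = 0 ∨ t = 1 ∨ t = w ∨ t = w + 1 := by
    intro t
    have hw0 : w ≠ 0 := fun e => by rw [e] at hw; simp at hw
    have hw1 : w ≠ 1 := fun e => by
      rw [e] at hw
      have := CharTwo.add_self_eq_zero (1 : K)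
      rw [← hw] at this
      simp at this
    have hc : ({0, 1, w, w + 1} : Finset K).card = 4 := by
      have e1 : w + 1 ≠ 0 := fun e => hw1 (CharTwo.add_eq_zero.1 e)
      have e2 : w + 1 ≠ 1 := fun e => hw0 (by simpa using e)
      have e3 : w + 1 ≠ w := fun e => (one_ne_zero : (1 : K) ≠ 0) (by simpa using e)
      rw [Finset.card_insert_of_notMem (by simp [Ne.symm hw0, Ne.symm e1]),
        Finset.card_insert_of_notMem (by simp [Ne.symm hw1, Ne.symm e2]),
        Finset.card_insert_of_notMem (by simp [Ne.symm e3]), Finset.card_singleton]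
    have := Finset.eq_univ_of_card ({0, 1, w, w + 1} : Finset K) (by rw [hc, hK])
    simpa using (this ▸ Finset.mem_univ t : t ∈ ({0, 1, w, w + 1} : Finset K))
  have hF := facts_chevE6.{u}
  have hg' : g = wordG hF l := Units.ext (hg.trans (wordG_val hF l).symm)
  subst hg'
  have hgen : ∀ x, bu hw x ∈ Subgroup.closure (Set.range (bu hw)) := fun x =>
    Subgroup.subset_closure ⟨x, rfl⟩
  have hone : ∀ r ∈ [e6p2, e6m2, e6p4, e6m4], ∃ x < 12,
      (bw.getD x []).map (fun i => xs.getD i (0, 0)) = [(r, 1)] := by decide +kernel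
  have htwo : ∀ rs ∈ [(e6p1, e6p6), (e6m1, e6m6), (e6p3, e6p5), (e6m3, e6m5)], ∀ s ∈ [1, 2],
      ∃ x < 12, (bw.getD x []).map (fun i => xs.getD i (0, 0)) = [(rs.1, s), (rs.2, sPow s 2)] := by
    decide +kernel
  have hbu : ∀ {x : Nat}, x < 12 → bu hw x =
      wordG hF (((bw.getD x []).map fun i => xs.getD i (0, 0)).map fun p => (p.1, sval w p.2)) := by
    intro x hx
    refine Units.ext ?_
    rw [bu_val hw hx, wordG_val]
    have h := List.all_eq_true.1 bm_ok x (List.mem_range.2 hx)
    rw [Bool.and_eq_true] at h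
    obtain ⟨hi, -⟩ := bw_shape x (List.mem_range.2 hx)
    rw [wordB_spec hw good_xm h.1, ChevalleyDatum.wordMat, List.map_map, List.map_map]
    exact congrArg List.prod (List.map_congr_left fun i hi' => xm_spec hw (hi i hi'))
  rcases hl with ⟨t, ht, r, hr, rfl⟩ | ⟨t, rs, hrs, rfl⟩
  · have h01 : t = 0 ∨ t = 1 := by
      have hz : t * (t - 1) = 0 := by linear_combination ht
      rcases mul_eq_zero.1 hz with h | h
      · exact Or.inl h
      · exact Or.inr (sub_eq_zero.1 h)
    rcases h01 with rfl | rfl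
    · have : wordG hF [(r, (0 : K))] = 1 := Units.ext (by
        rw [wordG_val, ChevalleyDatum.wordMat]; simp [x_zero hF])
      rw [this]; exact one_mem _
    · obtain ⟨x, hx, e⟩ := hone r hr
      have h := hbu hx
      rw [e] at h
      simp only [List.map_cons, List.map_nil, show sval w 1 = 1 by simp [sval, Nat.testBit_succ]] at h
      exact h ▸ hgen x
  · obtain ⟨r, s⟩ := rs
    have hxg : ∀ a : K, wordG hF [(r, a), (s, a ^ 2)] = xG hF r a * xG hF s (a ^ 2) := fun a => by
      apply Units.ext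
      rw [wordG_val, Units.val_mul, xG_val, xG_val]
      simp [ChevalleyDatum.wordMat]
    have hmem : ∀ k ∈ [1, 2], xG hF r (sval w k) * xG hF s ((sval w k) ^ 2) ∈
        Subgroup.closure (Set.range (bu hw)) := by
      intro k hk
      obtain ⟨x, hx, e⟩ := htwo _ hrs k hk
      have h := hbu hx
      rw [e] at h
      simp only [List.map_cons, List.map_nil] at h
      rw [← hxg, ← sval_sPow hw (by simp at hk; omega) 2, ← h]
      exact hgen x
    have h1 := hmem 1 (by simp)
    have h2 := hmem 2 (by simp)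
    rw [show sval w 1 = 1 by simp [sval, Nat.testBit_succ]] at h1
    rw [show sval w 2 = w by simp [sval, Nat.testBit_succ]] at h2
    rw [hxg]
    rcases h4 t with rfl | rfl | rfl | rfl
    · have : xG hF r (0 : K) * xG hF s ((0 : K) ^ 2) = 1 := Units.ext (by
        rw [Units.val_mul, xG_val, xG_val]; simp [x_zero hF])
      rw [this]; exact one_mem _
    · exact h1
    · exact h2
    · have hc : xG hF r w * xG hF s (w ^ 2) * (xG hF r 1 * xG hF s (1 ^ 2)) =
          xG hF r (w + 1) * xG hF s ((w + 1) ^ 2) := by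
        have hcm : Commute (xG hF s (w ^ 2)) (xG hF r (1 : K)) := by
          have hn : ∀ rs ∈ [(e6p1, e6p6), (e6m1, e6m6), (e6p3, e6p5), (e6m3, e6m5)], rs.1 < chevE6.nroots ∧
              rs.2 < chevE6.nroots ∧ rs.2 ≠ rs.1 ∧ rs.2 ≠ chevE6.neg rs.1 ∧ chevE6.commTerms rs.1 rs.2 = [] := by
            decide +kernel
          obtain ⟨hr, hs, hne, hnn, hc⟩ := hn _ hrs
          refine Units.ext ?_
          simp only [Units.val_mul, xG_val]
          rw [hF.x_comm K r s hr hs hne hnn]
          simp [ChevalleyDatum.commWord, hc, ChevalleyDatum.wordMat]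
        rw [mul_assoc, ← mul_assoc (xG hF s (w ^ 2)), hcm.eq, mul_assoc, ← mul_assoc, ← mul_assoc,
          xG_mul, mul_assoc, xG_mul, CharTwo.add_sq, one_pow]
      exact hc ▸ Subgroup.mul_mem _ h2 h1

include hw in
theorem eqv_of_mem [Fintype K] (hK : Fintype.card K = 4) {g : GL chevE6.Idx K}
    (hg : g ∈ twistedE6 K 2) : Eqv w g := by
  refine Subgroup.closure_induction (p := fun g _ => Eqv w g) ?_ ⟨fun v => by simp, by simp⟩
    (fun _ _ _ _ => eqv_mul w) (fun _ _ => eqv_inv w) (twisted_le hw hK hg)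
  rintro _ ⟨x, rfl⟩
  exact eqv_bu hw x

end Cfsg.Agent.E6Large
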