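import Cfsg.Agent.E6Large.Packed
import Cfsg.Agent.E6Large.Data.Ad

/-!
# The bracket as packed matrices
-/

set_option autoImplicit false

namespace Cfsg.Agent.E6Large

open Cfsg.Agent.E6Fi22

/-- The adjoint action of a packed vector. -/
noncomputable def brK {α : Type} (P : Nat) (k : List Nat → α) : α :=
  List.rec (motive := fun _ => (List Nat → α) → α) (fun k => k [])
    (fun j _ ih k => CosetCert.force (mvF (adE j) P) fun x => ih fun l => k (x :: l)) (List.range 78) k

/-- A matrix commutes with the bracket at the basis vector `c`. -/
noncomputable def eqvB (g : List Nat) (c : Nat) : Bool :=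
  brK (Nat.shiftLeft 1 c) fun A => brK (mvF g (Nat.shiftLeft 1 c)) fun B => mulMul g A B g

/-- A symmetric involution for the form. -/
noncomputable def formB (g : List Nat) : Bool := mulF fm g fun P => trB P P

end Cfsg.Agent.E6Large
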