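import Cfsg.Agent.E6Large.Inv

/-!
# Certificates: the canonical subspaces as images of idempotent packed matrices
-/

set_option autoImplicit false

namespace Cfsg.Agent.E6Large

open Cfsg.Lie Cfsg.Agent.Chev Cfsg.Agent.E6Fi22
open scoped MatrixGroups Matrix

universe u

/-- All the lists have length 78. -/
def lenB (n : Nat) (L : Nat → List Nat) : Bool := (List.range n).all fun i => (L i).length == 78

theorem len_of {n : Nat} {L : Nat → List Nat} (h : lenB n L = true) {i : Nat} (hi : i < n) :
    (L i).length = 78 := beq_iff_eq.1 (List.all_eq_true.1 h i (List.mem_range.2 hi))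

/-- The common kernel of the matrices `L i` is the image of `P`. -/
noncomputable def kerCert (n : Nat) (L Q : Nat → List Nat) (P : List Nat) : Bool :=
  (P.length == 78 && lenB n L && lenB n Q) && ((List.range n).all fun i => mulEq (L i) P zeM) &&
    sumF ((List.range n).map fun i => (Q i, L i)) zeM fun S => eqB S (addM idM P)

/-- `P` has its columns in the list, and fixes it. -/
noncomputable def colsB (P bs : List Nat) : Bool :=
  (P.length == 78) && ((List.range 78).all fun c => Nat.beq (P.getD c 0) 0 || bs.any (Nat.beq (P.getD c 0))) &&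
    bs.all fun b => Nat.beq (mvF P b) b

/-- The fixed space of `z`. -/
noncomputable def fixCert (z Q P bs : List Nat) : Bool :=
  (z.length == 78) && kerCert 1 (fun _ => addM z idM) (fun _ => Q) P && colsB P bs

/-- The span of the brackets of a fixed space. -/
noncomputable def dCert (P bs W : List Nat) (R C : Nat → List Nat) : Bool :=
  (W.length == 78 && lenB bs.length R && lenB bs.length C) &&
    ((List.range bs.length).all fun i =>
      brK (bs.getD i 0) fun A => mulEq A P (R i) && mulEq W (R i) (R i)) &&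
    sumF ((List.range bs.length).map fun i => (R i, C i)) zeM fun S => eqB S W

/-- The operators for the powers. -/
noncomputable def eCert (m : Nat) (bs : List Nat) (L : Nat → List Nat) : Bool :=
  (Nat.beq bs.length 6 && Nat.beq (Nat.mod m 2) 0) && ((List.range 6).all fun i =>
    brK (bs.getD i 0) fun A => sqF m A fun S => eqB (addM S A) (L i)) &&
  ((List.range 6).all fun i => (List.range i).all fun j =>
    brK (bs.getD i 0) fun A => brK (bs.getD j 0) fun B => mulMul A B B A)

variable {K : Type u} [Field K]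

local notation "V" => chevE6.Idx → K
local notation "M" => Matrix chevE6.Idx chevE6.Idx K
local notation "GG" => GL chevE6.Idx K

/-- The fixed vectors of a packed idempotent. -/
def img (w : K) (P : List Nat) : Set V := {v | toMat w P *ᵥ v = v}

/-- The span of packed columns. -/
def colSpan (w : K) (bs : List Nat) : Submodule K V :=
  Submodule.span K {v : V | ∃ b ∈ bs, toVec w b = v}

theorem mulVec_eq_sum (A : M) (v : V) : A *ᵥ v = ∑ j, v j • fun i => A i j := by
  funext i
  simp [Matrix.mulVec, dotProduct, mul_comm]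

variable [CharP K 2] {w : K}

theorem toVec_zero (w : K) : (toVec w 0 : V) = 0 := funext fun i => val_zero w _

theorem kerCert_spec (hw : w ^ 2 = w + 1) {n : Nat} {L Q : Nat → List Nat} {P : List Nat}
    (h : kerCert n L Q P = true) (v : V) : (∀ i < n, toMat w (L i) *ᵥ v = 0) ↔ v ∈ img w P := by
  simp only [kerCert, Bool.and_eq_true, beq_iff_eq] at h
  obtain ⟨⟨⟨⟨hP, hL⟩, hQ⟩, h1⟩, h2⟩ := h
  constructor
  · intro hv
    have e := sumEq_spec hw (L := (List.range n).map fun i => (Q i, L i))
      (fun p hp => by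
        obtain ⟨i, hi, rfl⟩ := List.mem_map.1 hp
        exact ⟨len_of hQ (List.mem_range.1 hi), len_of hL (List.mem_range.1 hi)⟩) h2
    rw [toMat_addM idM_length hP, toMat_idM, List.map_map, ← List.sum_toFinset _ (List.nodup_range ..),
      List.toFinset_range] at e
    have e2 := congrArg (fun A : M => A *ᵥ v) e
    simp only [Matrix.sum_mulVec, Function.comp_apply, ← Matrix.mulVec_mulVec, Matrix.add_mulVec,
      Matrix.one_mulVec] at e2
    rw [Finset.sum_eq_zero fun i hi => by rw [hv i (Finset.mem_range.1 hi), Matrix.mulVec_zero]] at e2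
    show _ = v
    funext a
    have := congrFun e2 a
    simp only [Pi.zero_apply, Pi.add_apply] at this
    exact (CharTwo.add_eq_zero.1 this.symm).symm
  · intro hv i hi
    have e := mulEq_spec hw (len_of hL hi) hP (List.all_eq_true.1 h1 i (List.mem_range.2 hi))
    rw [← hv, Matrix.mulVec_mulVec, e, toMat_zeM, Matrix.zero_mulVec]

theorem colsB_spec (hw : w ^ 2 = w + 1) {P bs : List Nat} (h : colsB P bs = true) :
    (∀ b ∈ bs, toVec w b ∈ img w P) ∧ ∀ v : V, v ∈ img w P → v ∈ colSpan w bs := by
  simp only [colsB, Bool.and_eq_true, beq_iff_eq] at h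
  obtain ⟨⟨hP, h1⟩, h2⟩ := h
  refine ⟨fun b hb => ?_, fun v hv => ?_⟩
  · show _ = toVec w b
    rw [← toVec_mv hw hP, ← mvF_eq, Nat.eq_of_beq_eq_true (List.all_eq_true.1 h2 b hb)]
  · rw [← hv, mulVec_eq_sum]
    refine Submodule.sum_mem _ fun j _ => Submodule.smul_mem _ _ ?_
    show toVec w (P.getD (enc chevE6 j) 0) ∈ colSpan w bs
    have := List.all_eq_true.1 h1 _ (List.mem_range.2 (enc_lt78 j))
    simp only [Bool.or_eq_true, List.any_eq_true] at this
    rcases this with e | ⟨b, hb, e⟩
    · rw [Nat.eq_of_beq_eq_true e, toVec_zero]; exact zero_mem _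
    · rw [Nat.eq_of_beq_eq_true e]; exact Submodule.subset_span ⟨b, hb, rfl⟩

theorem colsB_idem (hw : w ^ 2 = w + 1) {P bs : List Nat} (h : colsB P bs = true) :
    toMat w P * toMat w P = toMat w P := by
  obtain ⟨hb, -⟩ := colsB_spec hw h
  simp only [colsB, Bool.and_eq_true, beq_iff_eq] at h
  ext a c
  have hcol : toVec w (P.getD (enc chevE6 c) 0) ∈ img w P := by
    have := List.all_eq_true.1 h.1.2 _ (List.mem_range.2 (enc_lt78 c))
    simp only [Bool.or_eq_true, List.any_eq_true] at this
    rcases this with e | ⟨b, hb2, e⟩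
    · rw [Nat.eq_of_beq_eq_true e, toVec_zero]; exact Matrix.mulVec_zero _
    · rw [Nat.eq_of_beq_eq_true e]; exact hb b hb2
  exact congrFun hcol a

theorem fixCert_spec (hw : w ^ 2 = w + 1) {z Q P bs : List Nat} (h : fixCert z Q P bs = true) :
    (∀ v : V, toMat w z *ᵥ v = v ↔ v ∈ img w P) ∧ (∀ b ∈ bs, toVec w b ∈ img w P) ∧
      ∀ v : V, v ∈ img w P → v ∈ colSpan w bs := by
  simp only [fixCert, Bool.and_eq_true, beq_iff_eq] at h
  obtain ⟨⟨hz, h1⟩, h2⟩ := h
  refine ⟨fun v => ?_, colsB_spec hw h2⟩
  rw [← kerCert_spec hw h1 v]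
  simp only [toMat_addM hz idM_length, toMat_idM, Matrix.add_mulVec, Matrix.one_mulVec]
  constructor
  · intro e i _; rw [e]; funext a; exact CharTwo.add_self_eq_zero _
  · intro e
    funext a
    exact CharTwo.add_eq_zero.1 (congrFun (e 0 one_pos) a)

/-- The subgroup generated by an element has the same fixed vectors. -/
theorem fixV_zpowers (x : GG) (v : V) : v ∈ fixV (Subgroup.zpowers x) ↔ (x : M) *ᵥ v = v := by
  refine ⟨fun h => h x (Subgroup.mem_zpowers x), fun h y hy => ?_⟩
  have : Subgroup.zpowers x ≤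
      { carrier := {y : GG | (y : M) *ᵥ v = v}
        mul_mem' := fun {a b} ha hb => by
          show _ = v
          rw [Units.val_mul, ← Matrix.mulVec_mulVec, hb, ha]
        one_mem' := by simp
        inv_mem' := fun {a} ha => by
          show _ = v
          conv_lhs => rw [← ha, inv_mulVec_cancel] } := Subgroup.zpowers_le.2 h
  exact this hy

theorem dW_eq (hw : w ^ 2 = w + 1) {E : Subgroup GG} {P bs W : List Nat} {R C : Nat → List Nat}
    (hfix : ∀ v : V, v ∈ fixV E ↔ v ∈ img w P) (hP : colsB P bs = true)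
    (h : dCert P bs W R C = true) : dW w E = img w W := by
  obtain ⟨hb, hspan⟩ := colsB_spec hw hP
  have hPl : P.length = 78 := by
    simp only [colsB, Bool.and_eq_true, beq_iff_eq] at hP; exact hP.1.1
  simp only [dCert, Bool.and_eq_true, beq_iff_eq] at h
  obtain ⟨⟨⟨⟨hW, hR⟩, hC⟩, h1⟩, h2⟩ := h
  have key : ∀ i < bs.length, br w (toVec w (bs.getD i 0)) * toMat w P = toMat w (R i) ∧
      toMat w W * toMat w (R i) = toMat w (R i) := fun i hi => by
    have := List.all_eq_true.1 h1 i (List.mem_range.2 hi)
    rw [brK_eq, Bool.and_eq_true] at this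
    rw [← toMat_brK hw]
    exact ⟨mulEq_spec hw (by simp) hPl this.1, mulEq_spec hw hW (len_of hR hi) this.2⟩
  ext v
  constructor
  · intro hv
    let S : Submodule K V :=
      { carrier := img w W
        add_mem' := fun {a b} ha hb => by
          show _ = a + b
          rw [Matrix.mulVec_add, ha, hb]
        zero_mem' := Matrix.mulVec_zero _
        smul_mem' := fun c a ha => by
          show _ = c • a
          rw [Matrix.mulVec_smul, ha] }
    refine (Submodule.span_le (p := S)).2 ?_ hv
    rintro _ ⟨a, ha, b, hb', rfl⟩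
    have hbP : toMat w P *ᵥ b = b := (hfix b).1 hb'
    have hle : colSpan w bs ≤ S.comap
        ((LinearMap.applyₗ b).comp ((Matrix.mulVecBilin K K).comp (br w))) :=
      Submodule.span_le.2 (by
        rintro _ ⟨c, hc, rfl⟩
        obtain ⟨i, hi, rfl⟩ := List.getElem_of_mem hc
        show toMat w W *ᵥ (br w (toVec w bs[i]) *ᵥ b) = br w (toVec w bs[i]) *ᵥ b
        obtain ⟨k1, k2⟩ := key i hi
        rw [List.getD_eq_getElem _ _ hi] at k1
        rw [← hbP, Matrix.mulVec_mulVec _ (br w (toVec w bs[i])), k1, Matrix.mulVec_mulVec, k2])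
    exact hle (hspan a ((hfix a).1 ha))
  · intro hv
    have e := sumEq_spec hw (L := (List.range bs.length).map fun i => (R i, C i))
      (fun p hp => by
        obtain ⟨i, hi, rfl⟩ := List.mem_map.1 hp
        exact ⟨len_of hR (List.mem_range.1 hi), len_of hC (List.mem_range.1 hi)⟩) h2
    rw [List.map_map, ← List.sum_toFinset _ (List.nodup_range ..), List.toFinset_range] at e
    rw [← hv, ← e, Matrix.sum_mulVec]
    refine Submodule.sum_mem _ fun i hi => ?_
    have hi' := Finset.mem_range.1 hi
    rw [Function.comp_apply, ← Matrix.mulVec_mulVec, ← (key i hi').1, ← Matrix.mulVec_mulVec]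
    refine Submodule.subset_span ⟨toVec w (bs.getD i 0), ?_, _, ?_, rfl⟩
    · rw [hfix, List.getD_eq_getElem _ _ hi']
      exact hb _ (List.getElem_mem hi')
    · rw [hfix]
      have hPP := colsB_idem hw hP
      show _ = _
      rw [Matrix.mulVec_mulVec, hPP]

/-- Powers `2 ^ m`, `m` even, are linear on commuting families. -/
theorem pow_sum_smul {n : Nat} (hK : ∀ c : K, c ^ 4 = c) {m : ℕ} (hm : m % 2 = 0) (B : Fin n → M)
    (hB : ∀ i j, Commute (B i) (B j)) (c : Fin n → K) :
    (∑ i, c i • B i) ^ 2 ^ m = ∑ i, c i • B i ^ 2 ^ m := by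
  haveI : Fact (Nat.Prime 2) := ⟨Nat.prime_two⟩
  haveI : Nonempty chevE6.Idx := ⟨Sum.inl ⟨0, by decide +kernel⟩⟩
  have hc : ∀ a : K, a ^ 2 ^ m = a := by
    obtain ⟨k, rfl⟩ : ∃ k, m = 2 * k := ⟨m / 2, by omega⟩
    intro a
    rw [pow_mul]
    induction k with
    | zero => simp
    | succ k ih => rw [pow_succ, pow_mul, ih (by omega), show (2 ^ 2 : ℕ) = 4 from rfl, hK]
  classical
  suffices ∀ s : Finset (Fin n), (∑ i ∈ s, c i • B i) ^ 2 ^ m = ∑ i ∈ s, c i • B i ^ 2 ^ m from this _
  intro s
  induction s using Finset.induction_on with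
  | empty => simp [zero_pow (Nat.two_pow_pos m).ne']
  | insert i s hi ih =>
    rw [Finset.sum_insert hi, Finset.sum_insert hi, add_pow_char_pow_of_commute (p := 2) (h := ?_), ih,
      smul_pow, hc]
    exact Commute.sum_right _ _ _ fun j _ => ((hB i j).smul_left _).smul_right _

theorem exists_coeff {bs : List Nat} {v : V} (h : v ∈ colSpan w bs) :
    ∃ c : Fin bs.length → K, v = ∑ i, c i • toVec w (bs.getD i 0) := by
  have hle : colSpan w bs ≤ Submodule.span K (Set.range fun i : Fin bs.length => toVec w (bs.getD i 0)) :=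
    Submodule.span_mono fun x ⟨b, hb, e⟩ => by
      obtain ⟨i, hi, rfl⟩ := List.getElem_of_mem hb
      refine ⟨⟨i, hi⟩, ?_⟩
      show toVec w (bs.getD i 0) = x
      rw [List.getD_eq_getElem _ _ hi]; exact e
  obtain ⟨c, hc⟩ := Submodule.mem_span_range_iff_exists_fun K |>.1 (hle h)
  exact ⟨c, hc.symm⟩

theorem eW_eq (hw : w ^ 2 = w + 1) (hK : ∀ c : K, c ^ 4 = c) {E : Subgroup GG} {m : Nat}
    {P bs W : List Nat} {L Q : Nat → List Nat}
    (hfix : ∀ v : V, v ∈ fixV E ↔ v ∈ img w P) (hP : colsB P bs = true)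
    (h : eCert m bs L = true) (hk : kerCert 6 L Q W = true) : eW w E m = img w W := by
  obtain ⟨hb, hspan⟩ := colsB_spec hw hP
  simp only [eCert, Bool.and_eq_true] at h
  obtain ⟨⟨⟨hlen, hm⟩, h1⟩, h2⟩ := h
  have hlen' := Nat.eq_of_beq_eq_true hlen
  have hm' : m % 2 = 0 := Nat.eq_of_beq_eq_true hm
  set B : Fin bs.length → M := fun i => br w (toVec w (bs.getD i 0)) with hBdef
  have hL : ∀ i < 6, toMat w (L i) = br w (toVec w (bs.getD i 0)) ^ 2 ^ m + br w (toVec w (bs.getD i 0)) := by
    intro i hi
    have e := List.all_eq_true.1 h1 i (List.mem_range.2 hi)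
    rw [brK_eq] at e
    obtain ⟨S, hS, hSm, hSk⟩ := sqF_spec hw m ((List.range 78).map fun j => mv (adE j) (bs.getD i 0))
      (fun S => eqB (addM S ((List.range 78).map fun j => mv (adE j) (bs.getD i 0))) (L i)) (by simp)
    rw [hSk] at e
    rw [eqB_spec _ _ e, toMat_addM hS (by simp), hSm, toMat_brK hw]
  have hB : ∀ i j, Commute (B i) (B j) := by
    have key : ∀ i j, (j : Fin bs.length) < i → Commute (B i) (B j) := fun i j hji => by
      have e := List.all_eq_true.1 (List.all_eq_true.1 h2 i (List.mem_range.2 (by have := i.2; omega))) j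
        (List.mem_range.2 hji)
      rw [brK_eq, brK_eq] at e
      have := mulMul_spec hw (by simp) (by simp) (by simp) (by simp) e
      rw [toMat_brK hw, toMat_brK hw] at this
      exact this
    intro i j
    rcases lt_trichotomy i j with h' | h' | h'
    · exact (key j i h').symm
    · exact h' ▸ Commute.refl _
    · exact key i j h'
  ext v
  rw [← kerCert_spec hw hk v]
  constructor
  · intro hv i hi
    have hmem : toVec w (bs.getD i 0) ∈ fixV E := by
      rw [hfix, List.getD_eq_getElem _ _ (by omega)]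
      exact hb _ (List.getElem_mem _)
    rw [hL i hi, Matrix.add_mulVec, hv _ hmem]
    funext a; exact CharTwo.add_self_eq_zero _
  · intro hv a ha
    obtain ⟨c, rfl⟩ := exists_coeff (hspan a ((hfix a).1 ha))
    have e : br w (∑ i, c i • toVec w (bs.getD i 0)) = ∑ i, c i • B i := by simp [hBdef]
    rw [e, pow_sum_smul hK hm' B hB, Matrix.sum_mulVec, Matrix.sum_mulVec]
    refine Finset.sum_congr rfl fun i _ => ?_
    rw [Matrix.smul_mulVec, Matrix.smul_mulVec]
    congr 1
    have := hv i (by have := i.2; omega)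
    rw [hL i (by have := i.2; omega), Matrix.add_mulVec] at this
    funext x
    exact CharTwo.add_eq_zero.1 (congrFun this x)

end Cfsg.Agent.E6Large
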