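import Cfsg.Agent.E6Large.Cert

/-!
# Certificates: the quadratic operators, and the sum over a subgroup of order 49
-/

set_option autoImplicit false

namespace Cfsg.Agent.E6Large

open Cfsg.Lie Cfsg.Agent.Chev Cfsg.Agent.E6Fi22
open scoped MatrixGroups Matrix

universe u

/-- Padding to 78 columns. -/
def padC (l : List Nat) : List Nat := l ++ List.replicate (78 - l.length) 0

/-- A basis with its dual basis. -/
noncomputable def dualCert (P bs ds bt cb : List Nat) : Bool :=
  (Nat.beq bs.length 6 && Nat.beq ds.length 6 && Nat.beq cb.length 6 && (bt.length == 78)) &&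
    trB (padC bs) bt && (mulF fm (padC ds) fun FD => mulEq bt FD (padC [1, 2, 4, 8, 16, 32])) &&
    ((List.range 6).all fun i => Nat.beq (mvF P (ds.getD i 0)) (ds.getD i 0) &&
      Nat.beq (mvF (padC ds) (cb.getD i 0)) (bs.getD i 0))

/-- The quadratic operators. -/
noncomputable def oCert (bs ds : List Nat) (AD : Nat → List Nat) (S : Nat → Nat → List Nat)
    (O : Nat → List Nat) : Bool :=
  (lenB 6 AD && lenB 6 (S 0) && lenB 6 (S 1)) &&
    ((List.range 6).all fun i => brK (ds.getD i 0) fun A => eqB A (AD i)) &&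
    ((List.range 2).all fun k => ((List.range 6).all fun i =>
      brK (bs.getD i 0) fun A => sqF (2 * k + 2) A fun T => eqB T (S k i)) &&
      sumF ((List.range 6).map fun i => (AD i, S k i)) zeM fun T => eqB T (O k)) &&
  ((List.range 6).all fun i => (List.range i).all fun j =>
    brK (bs.getD i 0) fun A => brK (bs.getD j 0) fun B => mulMul A B B A)

/-- A condition on all products `X ^ a * Y ^ b`. -/
noncomputable def rowK (Y : List Nat) (ok : Nat → List Nat → Bool) (n : Nat) (A : List Nat) : Bool :=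
  List.rec (motive := fun _ => List Nat → Bool) (fun _ => true)
    (fun b _ ih A => ok b A && mulF A Y ih) (List.range n) A

/-- A condition on all products `X ^ a * Y ^ b`. -/
noncomputable def gridK (X Y : List Nat) (ok : Nat → Nat → List Nat → Bool) (n : Nat) (A : List Nat) : Bool :=
  rowK X (fun a P => rowK Y (ok a) n P) n A

variable {K : Type u} [Field K]

local notation "V" => chevE6.Idx → K
local notation "M" => Matrix chevE6.Idx chevE6.Idx K
local notation "GG" => GL chevE6.Idx K

variable [CharP K 2] {w : K}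

theorem padC_length {l : List Nat} (h : l.length ≤ 78) : (padC l).length = 78 := by
  simp [padC]; omega

theorem padC_getD {l : List Nat} {i : Nat} (hi : i < l.length) : (padC l).getD i 0 = l.getD i 0 := by
  rw [padC, List.getD_append _ _ _ _ hi]

theorem exists_coeff_six (hw : w ^ 2 = w + 1) {P bs ds bt cb : List Nat} (hP : colsB P bs = true)
    (h : dualCert P bs ds bt cb = true) :
    (∀ i : Fin 6, toVec w (bs.getD i 0) ∈ img w P ∧ toVec w (ds.getD i 0) ∈ img w P) ∧
    (∀ v : V, v ∈ img w P → ∃ c : Fin 6 → K, v = ∑ i : Fin 6, c i • toVec w (bs.getD i 0)) ∧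
    (∀ v : V, v ∈ img w P → ∃ c : Fin 6 → K, v = ∑ i : Fin 6, c i • toVec w (ds.getD i 0)) ∧
    ∀ l m : Fin 6, frm w (toVec w (bs.getD l 0)) (toVec w (ds.getD m 0)) = if l = m then 1 else 0 := by
  obtain ⟨hb, hspan⟩ := colsB_spec hw hP
  have hPl : P.length = 78 := by
    simp only [colsB, Bool.and_eq_true, beq_iff_eq] at hP; exact hP.1.1
  simp only [dualCert, Bool.and_eq_true] at h
  obtain ⟨⟨⟨⟨⟨⟨hbl, hdl⟩, hcl⟩, hbtl⟩, htr⟩, hf⟩, hc⟩ := h
  have hbl' := Nat.eq_of_beq_eq_true hbl
  have hdl' := Nat.eq_of_beq_eq_true hdl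
  have hbt : bt.length = 78 := beq_iff_eq.1 hbtl
  have hd : ∀ i : Fin 6, toVec w (ds.getD i 0) ∈ img w P := fun i => by
    show _ = toVec w (ds.getD i 0)
    have := List.all_eq_true.1 hc i (List.mem_range.2 i.2)
    rw [Bool.and_eq_true] at this
    rw [← toVec_mv hw hPl, ← mvF_eq, Nat.eq_of_beq_eq_true this.1]
  have hb6 : ∀ i : Fin 6, toVec w (bs.getD i 0) ∈ img w P := fun i => by
    rw [List.getD_eq_getElem _ _ (by omega)]; exact hb _ (List.getElem_mem _)
  have hbc : ∀ v : V, v ∈ img w P → ∃ c : Fin 6 → K, v = ∑ i : Fin 6, c i • toVec w (bs.getD i 0) := by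
    intro v hv
    obtain ⟨c, hc⟩ := exists_coeff (hspan v hv)
    refine ⟨fun i => c (Fin.cast hbl'.symm i), hc.trans ?_⟩
    exact (Fintype.sum_equiv (finCongr hbl'.symm) _ _ fun i => rfl).symm
  refine ⟨fun i => ⟨hb6 i, hd i⟩, hbc, fun v hv => ?_, fun l m => ?_⟩
  · obtain ⟨c, hvc⟩ := hbc v hv
    suffices hv' : v ∈ Submodule.span K (Set.range fun i : Fin 6 => toVec w (ds.getD i 0)) by
      obtain ⟨c', hc'⟩ := Submodule.mem_span_range_iff_exists_fun K |>.1 hv'
      exact ⟨c', hc'.symm⟩
    rw [hvc]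
    refine Submodule.sum_mem _ fun i _ => Submodule.smul_mem _ _ ?_
    have := List.all_eq_true.1 hc i (List.mem_range.2 i.2)
    rw [Bool.and_eq_true] at this
    rw [← Nat.eq_of_beq_eq_true this.2, mvF_eq, toVec_mv hw (padC_length (by omega)), mulVec_eq_sum]
    refine Submodule.sum_mem _ fun j _ => Submodule.smul_mem _ _ ?_
    show toVec w ((padC ds).getD (enc chevE6 j) 0) ∈ _
    by_cases hj : enc chevE6 j < 6
    · rw [padC_getD (by omega)]
      exact Submodule.subset_span ⟨⟨_, hj⟩, rfl⟩
    · rw [padC, List.getD_append_right _ _ _ _ (by omega)]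
      have : (List.replicate (78 - ds.length) 0).getD (enc chevE6 j - ds.length) 0 = 0 := by
        rw [List.getD_eq_getElem?_getD, List.getElem?_replicate]
        split <;> rfl
      rw [this, toVec_zero]
      exact zero_mem _
  · rw [mulF_eq] at hf
    have e := mulEq_spec hw hbt (by rw [List.length_map, padC_length (by omega)]) hf
    rw [toMat_mul hw len_ad.2 (padC_length (by omega)), trB_spec w htr] at e
    have hr : chevE6.rank = 6 := rfl
    let I : Fin 6 → chevE6.Idx := fun i => Sum.inl ⟨i, by rw [hr]; exact i.2⟩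
    have hI : ∀ i, enc chevE6 (I i) = i := fun i => rfl
    have e2 := congrFun (congrFun e (I l)) (I m)
    have hu : toMat w (padC [1, 2, 4, 8, 16, 32]) (I l) (I m) = if l = m then 1 else 0 := by
      show val w _ _ = _
      rw [hI, hI, padC_getD (by simp), show ([1, 2, 4, 8, 16, 32] : List Nat).getD (m : Nat) 0 = Nat.shiftLeft 1 m from
        (by decide : ∀ m : Fin 6, ([1, 2, 4, 8, 16, 32] : List Nat).getD (m : Nat) 0 = Nat.shiftLeft 1 m) m,
        val_one_shift w (by omega)]
      simp [Fin.val_inj]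
    rw [← hu, ← e2, frm, Matrix.mul_apply]
    show ∑ k, toVec w (bs.getD l 0) k * _ = _
    refine Finset.sum_congr rfl fun k _ => ?_
    congr 1
    · show _ = val w ((padC bs).getD (enc chevE6 (I l)) 0) _
      rw [hI, padC_getD (by omega)]; rfl
    · rw [Matrix.mul_apply, Matrix.mulVec, dotProduct]
      refine Finset.sum_congr rfl fun j _ => ?_
      show _ = _ * val w ((padC ds).getD (enc chevE6 (I m)) 0) _
      rw [hI, padC_getD (by omega)]; rfl

theorem oW_eq (hw : w ^ 2 = w + 1) (hK : ∀ c : K, c ^ 4 = c) {E : Subgroup GG}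
    {P bs ds bt cb W : List Nat} {AD : Nat → List Nat} {S : Nat → Nat → List Nat} {O Q : Nat → List Nat}
    (hfix : ∀ v : V, v ∈ fixV E ↔ v ∈ img w P) (hP : colsB P bs = true)
    (hd : dualCert P bs ds bt cb = true) (h : oCert bs ds AD S O = true)
    (hk : kerCert 2 O Q W = true) : oW w E = img w W := by
  obtain ⟨hmem, hbc, hdc, hdual⟩ := exists_coeff_six hw hP hd
  simp only [oCert, Bool.and_eq_true] at h
  obtain ⟨⟨⟨⟨⟨hAD, hS0⟩, hS1⟩, h1⟩, h2⟩, h3⟩ := h
  have hS : ∀ k : Fin 2, lenB 6 (S k) = true := fun k => by fin_cases k <;> assumption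
  set B : Fin 6 → M := fun i => br w (toVec w (bs.getD i 0)) with hBdef
  set D : Fin 6 → M := fun i => br w (toVec w (ds.getD i 0)) with hDdef
  have hDA : ∀ i : Fin 6, toMat w (AD i) = D i := fun i => by
    have e := List.all_eq_true.1 h1 i (List.mem_range.2 i.2)
    rw [brK_eq] at e
    rw [eqB_spec _ _ e, toMat_brK hw]
  have hO : ∀ k : Fin 2, toMat w (O k) = ∑ i, D i * B i ^ 2 ^ (2 * (k : ℕ) + 2) := fun k => by
    have e := List.all_eq_true.1 h2 k (List.mem_range.2 k.2)
    rw [Bool.and_eq_true] at e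
    rw [← sumEq_spec hw (fun p hp => by
        obtain ⟨i, hi, rfl⟩ := List.mem_map.1 hp
        exact ⟨len_of hAD (List.mem_range.1 hi), len_of (hS k) (List.mem_range.1 hi)⟩) e.2,
      List.map_map, ← List.sum_toFinset _ (List.nodup_range ..), List.toFinset_range, Finset.sum_range]
    refine Finset.sum_congr rfl fun i _ => ?_
    have e' := List.all_eq_true.1 e.1 i (List.mem_range.2 i.2)
    rw [brK_eq] at e'
    obtain ⟨T, -, hTm, hTk⟩ := sqF_spec hw (2 * (k : ℕ) + 2) ((List.range 78).map fun j => mv (adE j) (bs.getD i 0))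
      (fun T => eqB T (S k i)) (by simp)
    rw [hTk] at e'
    show toMat w (AD i) * toMat w (S k i) = _
    rw [hDA, eqB_spec _ _ e', hTm, toMat_brK hw]
  have hB : ∀ i j, Commute (B i) (B j) := by
    have key : ∀ i j, (j : Fin 6) < i → Commute (B i) (B j) := fun i j hji => by
      have e := List.all_eq_true.1 (List.all_eq_true.1 h3 i (List.mem_range.2 i.2)) j (List.mem_range.2 hji)
      rw [brK_eq, brK_eq] at e
      have := mulMul_spec hw (by simp) (by simp) (by simp) (by simp) e
      rw [toMat_brK hw, toMat_brK hw] at this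
      exact this
    intro i j
    rcases lt_trichotomy i j with h' | h' | h'
    · exact (key j i h').symm
    · exact h' ▸ Commute.refl _
    · exact key i j h'
  ext v
  rw [← kerCert_spec hw hk v]
  constructor
  · intro hv k hk'
    rw [show O k = O ((⟨k, hk'⟩ : Fin 2) : ℕ) from rfl, hO]
    exact hv (fun i => toVec w (bs.getD i 0)) (fun i => toVec w (ds.getD i 0))
      ⟨fun i => (hfix _).2 (hmem i).1, fun i => (hfix _).2 (hmem i).2, hdual⟩ ⟨k, hk'⟩
  · intro hv a a' hd' k
    obtain ⟨ha, ha', hdd⟩ := hd'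
    choose A hA using fun i => hbc (a i) ((hfix _).1 (ha i))
    choose C hC using fun i => hdc (a' i) ((hfix _).1 (ha' i))
    have hAC : Matrix.of A * (Matrix.of C)ᵀ = 1 := by
      ext i j
      rw [Matrix.one_apply, ← hdd i j, hA i, hC j, Matrix.mul_apply]
      simp only [Matrix.of_apply, Matrix.transpose_apply, frm, Matrix.mulVec_sum, Matrix.mulVec_smul,
        dotProduct_sum, sum_dotProduct, smul_dotProduct, dotProduct_smul, smul_eq_mul]
      simp only [← frm.eq_def, hdual]
      simp [mul_comm]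
    have hCA := mul_eq_one_comm.1 hAC
    have key : ∑ i, br w (a' i) * br w (a i) ^ 2 ^ (2 * (k : ℕ) + 2) = toMat w (O k) := by
      have e1 : ∀ i, br w (a' i) * br w (a i) ^ 2 ^ (2 * (k : ℕ) + 2) =
          ∑ m, ∑ l, (C i m * A i l) • (D m * B l ^ 2 ^ (2 * (k : ℕ) + 2)) := fun i => by
        rw [hA i, hC i, map_sum, map_sum]
        simp only [map_smul]
        rw [pow_sum_smul hK (by omega) _ hB, Finset.sum_mul]
        simp only [Finset.mul_sum, Matrix.smul_mul, Matrix.mul_smul, smul_smul]
        exact Finset.sum_congr rfl fun m _ => Finset.sum_congr rfl fun l _ => by rw [mul_comm (A i l)]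
      simp only [e1]
      rw [Finset.sum_comm, hO]
      refine Finset.sum_congr rfl fun m _ => ?_
      rw [Finset.sum_comm]
      simp only [← Finset.sum_smul]
      have e2 : ∀ l, ∑ i, C i m * A i l = if m = l then 1 else 0 := fun l => by
        have := congrFun (congrFun hCA m) l
        simpa [Matrix.mul_apply, Matrix.one_apply] using this
      simp [e2]
    rw [key]
    exact hv k k.2

theorem rowK_spec (hw : w ^ 2 = w + 1) {Y : List Nat} (hY : Y.length = 78) {ok : Nat → List Nat → Bool}
    {n : Nat} {A : List Nat} (hA : A.length = 78) (h : rowK Y ok n A = true) {b : Nat} (hb : b < n) :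
    ∃ Q, Q.length = 78 ∧ toMat w Q = toMat w A * toMat w Y ^ b ∧ ok b Q = true := by
  suffices key : ∀ (l : List Nat) (A : List Nat), A.length = 78 →
      List.rec (motive := fun _ => List Nat → Bool) (fun _ => true)
        (fun b _ ih A => ok b A && mulF A Y ih) l A = true → ∀ i (hi : i < l.length),
      ∃ Q, Q.length = 78 ∧ toMat w Q = toMat w A * toMat w Y ^ i ∧ ok l[i] Q = true by
    obtain ⟨Q, h1, h2, h3⟩ := key (List.range n) A hA h b (by simpa using hb)
    exact ⟨Q, h1, h2, by simpa using h3⟩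
  intro l
  induction l with
  | nil => intro A _ _ i hi; simp at hi
  | cons c l ih =>
    intro A hA h i hi
    change (ok c A && mulF A Y _) = true at h
    rw [Bool.and_eq_true, mulF_eq] at h
    cases i with
    | zero => exact ⟨A, hA, by simp, h.1⟩
    | succ i =>
      obtain ⟨Q, h1, h2, h3⟩ := ih _ (by rw [List.length_map, hY]) h.2 i (by simpa using hi)
      exact ⟨Q, h1, by rw [h2, toMat_mul hw hA hY, pow_succ', mul_assoc], h3⟩

theorem gridK_spec (hw : w ^ 2 = w + 1) {X Y : List Nat} (hX : X.length = 78) (hY : Y.length = 78)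
    {ok : Nat → Nat → List Nat → Bool} {n : Nat} (h : gridK X Y ok n idM = true) {a b : Nat} (ha : a < n)
    (hb : b < n) :
    ∃ Q, Q.length = 78 ∧ toMat w Q = toMat w X ^ a * toMat w Y ^ b ∧ ok a b Q = true := by
  obtain ⟨P, h1, h2, h3⟩ := rowK_spec hw hX idM_length h ha
  obtain ⟨Q, h4, h5, h6⟩ := rowK_spec hw hY h1 h3 hb
  exact ⟨Q, h4, by rw [h5, h2, toMat_idM, one_mul], h6⟩

end Cfsg.Agent.E6Large
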