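import Cfsg.Agent.E6Large.CheckEl

/-!
# Kernel checks: derived algebras of fixed spaces
-/

set_option autoImplicit false
set_option maxRecDepth 100000
set_option Elab.async false

namespace Cfsg.Agent.E6Large

open Cfsg.Agent.E6Fi22

theorem d_ok0 : [0, 1, 2, 3].all (fun j => fixCert (zm j) (qf j) (pf j) (bs j) &&
    dCert (pf j) (bs j) (pd j) (rd j) (cd j) &&
    moveCert (pd j) (am (gD.getD j 0)) (zm j) (bm (miD.getD j 0)) ((bs j).getD (lD.getD j 0) 0) (mcD.getD j 0)) = true := by
  decide +kernel

end Cfsg.Agent.E6Large
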