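import Cfsg.Agent.E6Large.CheckEl
import Cfsg.Agent.E6Large.Data.E

/-!
# Kernel checks: the primes 13 and 17
-/

set_option autoImplicit false
set_option maxRecDepth 100000
set_option Elab.async false

namespace Cfsg.Agent.E6Large

open Cfsg.Agent.E6Fi22

theorem e_ok : (List.range 2).all (fun j => fixCert (am (zE.getD j 0)) (qfE j) (pfE j) (bsE j) &&
    eCert (mE.getD j 0) (bsE j) (lE j) && kerCert 6 (lE j) (kE j) (wE j) &&
    moveCert (wE j) (am (gE.getD j 0)) (am (zE.getD j 0)) (bm (miE.getD j 0))
      ((bsE j).getD (lEv.getD j 0) 0) (mcE.getD j 0)) = true := by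
  decide +kernel

end Cfsg.Agent.E6Large
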