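import Cfsg.Agent.E6Large.Moves
import Cfsg.Agent.E6Large.Data.El
import Cfsg.Agent.E6Large.Data.D

/-!
# Kernel checks: the elements
-/

set_option autoImplicit false
set_option maxRecDepth 100000
set_option Elab.async false

namespace Cfsg.Agent.E6Large

open Cfsg.Agent.E6Fi22

theorem len_el : lenB 20 am = true ∧ lenB 10 zm = true := by decide +kernel

theorem letters_el : (aws.all fun l => l.all fun i => Nat.blt i 12) = true ∧
    (zws.all fun l => l.all fun i => Nat.blt i 19) = true ∧ aws.length = 19 ∧ zws.length = 9 := by
  decide +kernel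

theorem am_ok : (List.range 19).all (fun x => wordK bm (aws.getD x []) idM fun P => eqB P (am x)) = true := by
  decide +kernel

theorem zm_ok : (List.range 9).all (fun x => wordK am (zws.getD x []) idM fun P => eqB P (zm x)) = true := by
  decide +kernel

theorem pow_ok : (powB (am 0) 11 idM && powB (am 1) 13 idM && powB (am 2) 17 idM && powB (am 3) 19 idM &&
    powB (am 4) 7 idM && powB (am 5) 7 idM && mulMul (am 4) (am 5) (am 5) (am 4)) = true := by
  decide +kernel

theorem y_moves : (Nat.beq (mvF (am 4) ((bs 1).getD 0 0)) ((bs 1).getD 0 0) &&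
    neB (mvF (am 5) ((bs 1).getD 0 0)) ((bs 1).getD 0 0)) = true := by
  decide +kernel

end Cfsg.Agent.E6Large
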