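import Cfsg.Agent.E6Large.Bracket
import Cfsg.Agent.E6Fi22.DataBase

/-!
# Kernel checks: the generators preserve bracket and form
-/

set_option autoImplicit false
set_option maxRecDepth 100000
set_option Elab.async false

namespace Cfsg.Agent.E6Large

open Cfsg.Agent.E6Fi22

theorem eqv_ok0 : (List.range 78).all (fun c => eqvB (bm 0) c) = true := by decide +kernel

theorem eqv_ok1 : (List.range 78).all (fun c => eqvB (bm 1) c) = true := by decide +kernel

theorem eqv_ok2 : (List.range 78).all (fun c => eqvB (bm 2) c) = true := by decide +kernel

end Cfsg.Agent.E6Large
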