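import Cfsg.Agent.E6Large.CheckEl
import Cfsg.Agent.E6Large.Data.O

/-!
# Kernel checks: the prime 19
-/

set_option autoImplicit false
set_option maxRecDepth 100000
set_option Elab.async false

namespace Cfsg.Agent.E6Large

open Cfsg.Agent.E6Fi22

theorem o_ok : (fixCert (am (parO.getD 0 0)) qfO pfO bsO && dualCert pfO bsO dsO btO cbO &&
    oCert bsO dsO adD sO oO && kerCert 2 oO kO wO &&
    moveCert wO (am (parO.getD 1 0)) (am (parO.getD 0 0)) (bm (parO.getD 3 0))
      (bsO.getD (parO.getD 2 0) 0) (parO.getD 4 0)) = true := by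
  decide +kernel

end Cfsg.Agent.E6Large
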