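import Cfsg.Agent.E6Large.CheckEl
import Cfsg.Agent.E6Large.Data.P0

/-!
# Kernel checks: the Sylow subgroup of order 49
-/

set_option autoImplicit false
set_option maxRecDepth 100000
set_option Elab.async false

namespace Cfsg.Agent.E6Large

open Cfsg.Agent.E6Fi22

/-- The exponents of the line `j`. -/
def lineExp (j : Nat) : Nat × Nat := if j = 0 then (0, 1) else (1, j - 1)

/-- The trace is zero, or a power is the generator of one of the four lines. -/
noncomputable def lineB (a b : Nat) (P : List Nat) : Bool :=
  (!trBit P 0 && !trBit P 78) || l4.any fun j => (List.range 7).any fun k =>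
    Nat.beq ((a * k) % 7) (lineExp j).1 && Nat.beq ((b * k) % 7) (lineExp j).2

theorem p_ok : (colsB pf0P bs0P &&
    kerCert 2 (fun i => addM (am (4 + i)) idM) q0P pf0P &&
    moveCert w0P (am (par0P.getD 0 0)) (am (4 + par0P.getD 1 0)) (bm (par0P.getD 3 0))
      (bs0P.getD (par0P.getD 2 0) 0) (par0P.getD 4 0)) = true := by
  decide +kernel

theorem w_ok : (lenB 4 c0P && lenB 8 pf && (l4.all fun j => Nat.blt j 8 && mulEq w0P (pf j) (pf j) &&
      (trBit (zm j) 0 || trBit (zm j) 78)) &&
    sumF ((List.range 4).map fun i => (pf (l4.getD i 0), c0P i)) zeM (fun T => eqB T w0P)) = true := by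
  decide +kernel

theorem grid_ok : gridK (am 4) (am 5) lineB 7 idM = true := by decide +kernel

theorem line_shape : ∀ j : Fin 8, zws.getD j [] =
    List.replicate (lineExp j).1 4 ++ List.replicate (lineExp j).2 5 := by decide +kernel

theorem l4_shape : l4.length = 4 := by decide +kernel

end Cfsg.Agent.E6Large
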