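import Cfsg.Agent.E6Large.Moves
import Cfsg.Agent.E6Large.CheckEl

/-!
# The elements as elements of `2E6(2)`
-/

set_option autoImplicit false
set_option maxRecDepth 100000

namespace Cfsg.Agent.E6Large

open Cfsg.Lie Cfsg.Agent.Chev Cfsg.Agent.E6Fi22
open scoped MatrixGroups Matrix

universe u

variable {K : Type u} [Field K] [CharP K 2] {w : K} (hw : w ^ 2 = w + 1)

theorem good_am : Good am := good_of (n := 19) len_el.1 fun x hx => by
  simp only [am]; rw [List.getD_eq_default _ _ (by simpa using hx)]; rfl

theorem good_zm : Good zm := good_of (n := 9) len_el.2 fun x hx => by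
  simp only [zm]; rw [List.getD_eq_default _ _ (by simpa using hx)]; rfl

/-- The elements given by words. -/
noncomputable def au (x : Nat) : GL chevE6.Idx K := ((aws.getD x []).map (bu hw)).prod

/-- The generators of the subgroups of prime order. -/
noncomputable def zu (j : Nat) : GL chevE6.Idx K := ((zws.getD j []).map (au hw)).prod

theorem au_mem (x : Nat) : au hw x ∈ twistedE6 K 2 :=
  Subgroup.list_prod_mem _ fun g hg => by
    obtain ⟨i, -, rfl⟩ := List.mem_map.1 hg
    exact bu_mem hw i

theorem zu_mem (j : Nat) : zu hw j ∈ twistedE6 K 2 :=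
  Subgroup.list_prod_mem _ fun g hg => by
    obtain ⟨i, -, rfl⟩ := List.mem_map.1 hg
    exact au_mem hw i

theorem au_val {x : Nat} (hx : x < 19) :
    (au hw x : Matrix chevE6.Idx chevE6.Idx K) = toMat w (am x) := by
  rw [au, wordB_spec hw good_bm (List.all_eq_true.1 am_ok x (List.mem_range.2 hx)),
    ← Units.coeHom_apply, map_list_prod, List.map_map]
  refine congrArg List.prod (List.map_congr_left fun i hi => bu_val hw (Nat.le_of_ble_eq_true ?_))
  rw [List.getD_eq_getElem _ _ (by rw [letters_el.2.2.1]; exact hx)] at hi
  exact List.all_eq_true.1 (List.all_eq_true.1 letters_el.1 _ (List.getElem_mem _)) i hi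

theorem zu_val {j : Nat} (hj : j < 9) :
    (zu hw j : Matrix chevE6.Idx chevE6.Idx K) = toMat w (zm j) := by
  rw [zu, wordB_spec hw good_am (List.all_eq_true.1 zm_ok j (List.mem_range.2 hj)),
    ← Units.coeHom_apply, map_list_prod, List.map_map]
  refine congrArg List.prod (List.map_congr_left fun i hi => au_val hw (Nat.le_of_ble_eq_true ?_))
  rw [List.getD_eq_getElem _ _ (by rw [letters_el.2.2.2]; exact hj)] at hi
  exact List.all_eq_true.1 (List.all_eq_true.1 letters_el.2.1 _ (List.getElem_mem _)) i hi

include hw in
theorem au_pow {x : Nat} (hx : x < 19) {m : Nat} (h : powB (am x) m idM = true) : au hw x ^ m = 1 := by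
  have := powB_spec hw m (am x) idM (good_am x) idM_length h
  rw [toMat_idM, one_mul, ← au_val hw hx, ← Units.val_pow_eq_pow_val, ← Units.val_one] at this
  exact Units.ext this

include hw in
theorem au_comm : Commute (au hw 4) (au hw 5) := by
  have h := pow_ok
  simp only [Bool.and_eq_true] at h
  have e := mulMul_spec (K := K) hw (good_am 4) (good_am 5) (good_am 5) (good_am 4) h.2
  rw [← au_val hw (by norm_num), ← au_val hw (by norm_num), ← Units.val_mul, ← Units.val_mul] at e
  exact Units.ext e

end Cfsg.Agent.E6Large
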