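import Cfsg.Agent.E6Large.Alg

/-!
# Subspaces canonically attached to a subgroup, and the criterion against maximality
-/

set_option autoImplicit false

namespace Cfsg.Agent.E6Large

open Cfsg.Lie Cfsg.Agent.Chev Cfsg.Agent.E6Fi22
open scoped MatrixGroups Matrix

universe u

variable {K : Type u} [Field K]

local notation "V" => chevE6.Idx → K
local notation "M" => Matrix chevE6.Idx chevE6.Idx K
local notation "GG" => GL chevE6.Idx K

/-- The common fixed vectors. -/
def fixV (E : Subgroup GG) : Submodule K V where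
  carrier := {v | ∀ x ∈ E, (x : M) *ᵥ v = v}
  add_mem' {a b} ha hb x hx := by rw [Matrix.mulVec_add, ha x hx, hb x hx]
  zero_mem' x _ := Matrix.mulVec_zero _
  smul_mem' c a ha x hx := by rw [Matrix.mulVec_smul, ha x hx]

/-- The span of the brackets of fixed vectors. -/
def dW (w : K) (E : Subgroup GG) : Set V :=
  ↑(Submodule.span K {v : V | ∃ a ∈ fixV E, ∃ b ∈ fixV E, br w a *ᵥ b = v})

/-- The vectors on which every fixed vector acts as its `2 ^ m`-th power. -/
def eW (w : K) (E : Subgroup GG) (m : ℕ) : Set V :=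
  {v | ∀ h ∈ fixV E, (br w h ^ 2 ^ m) *ᵥ v = br w h *ᵥ v}

/-- Dual families of fixed vectors. -/
def Dual (w : K) (E : Subgroup GG) (h h' : Fin 6 → V) : Prop :=
  (∀ i, h i ∈ fixV E) ∧ (∀ i, h' i ∈ fixV E) ∧ ∀ i j, frm w (h i) (h' j) = if i = j then 1 else 0

/-- The common kernel of two quadratic operators. -/
def oW (w : K) (E : Subgroup GG) : Set V :=
  {v | ∀ h h', Dual w E h h' → ∀ k : Fin 2,
    (∑ i, br w (h' i) * br w (h i) ^ 2 ^ (2 * (k : ℕ) + 2)) *ᵥ v = 0}

/-- The span of the fixed vectors of the elements with non-zero trace. -/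
def tW (E : Subgroup GG) : Set V :=
  ↑(Submodule.span K {v : V | ∃ z ∈ E, (z : M).trace ≠ 0 ∧ (z : M) *ᵥ v = v})

/-- An element normalises a subgroup. -/
def Nrm (g : GG) (E : Subgroup GG) : Prop := (∀ x ∈ E, g * x * g⁻¹ ∈ E) ∧ ∀ x ∈ E, g⁻¹ * x * g ∈ E

/-- An element stabilises a set. -/
def Stb (g : GG) (W : Set V) : Prop := ∀ v ∈ W, (g : M) *ᵥ v ∈ W

theorem Nrm.symm {g : GG} {E : Subgroup GG} (h : Nrm g E) : Nrm g⁻¹ E :=
  ⟨fun x hx => by rw [inv_inv]; exact h.2 x hx, fun x hx => by rw [inv_inv]; exact h.1 x hx⟩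

theorem stb_fix {g : GG} {E : Subgroup GG} (h : Nrm g E) {v : V} (hv : v ∈ fixV E) :
    (g : M) *ᵥ v ∈ fixV E := fun x hx => by
  have := hv _ (h.2 x hx)
  calc (x : M) *ᵥ ((g : M) *ᵥ v) = (g : M) *ᵥ (((g⁻¹ * x * g : GG) : M) *ᵥ v) := by
        rw [Matrix.mulVec_mulVec, Matrix.mulVec_mulVec, ← Units.val_mul, ← Units.val_mul]
        congr 2; group
    _ = _ := by rw [this]

theorem mulVec_inv_cancel (g : GG) (v : V) : (g : M) *ᵥ (((g⁻¹ : GG) : M) *ᵥ v) = v := by
  rw [Matrix.mulVec_mulVec, ← Units.val_mul, mul_inv_cancel, Units.val_one, Matrix.one_mulVec]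

theorem inv_mulVec_cancel (g : GG) (v : V) : ((g⁻¹ : GG) : M) *ᵥ ((g : M) *ᵥ v) = v := by
  rw [Matrix.mulVec_mulVec, ← Units.val_mul, inv_mul_cancel, Units.val_one, Matrix.one_mulVec]

variable {w : K}

theorem stb_span {g : GG} {S : Set V} (h : ∀ v ∈ S, (g : M) *ᵥ v ∈ Submodule.span K S) :
    Stb g ((Submodule.span K S : Submodule K V) : Set V) := fun v hv => by
  have : Submodule.span K S ≤ (Submodule.span K S).comap (Matrix.mulVecLin (g : M)) :=
    Submodule.span_le.2 h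
  exact this hv

theorem stb_dW {g : GG} {E : Subgroup GG} (he : Eqv w g) (h : Nrm g E) : Stb g (dW w E) := stb_span fun v hv => by
  obtain ⟨a, ha, b, hb, rfl⟩ := hv
  refine Submodule.subset_span ⟨_, stb_fix h ha, _, stb_fix h hb, ?_⟩
  rw [Matrix.mulVec_mulVec, Matrix.mulVec_mulVec, he.bracket]

theorem stb_eW {g : GG} {E : Subgroup GG} (m : ℕ) (he : Eqv w g) (h : Nrm g E) : Stb g (eW w E m) := fun v hv a ha => by
  set a' := ((g⁻¹ : GG) : M) *ᵥ a
  have ha' : a' ∈ fixV E := stb_fix h.symm ha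
  have e := hv a' ha'
  have s : SemiconjBy (g : M) (br w a') (br w a) := by
    have := he.bracket a'
    rw [mulVec_inv_cancel] at this
    exact this
  rw [Matrix.mulVec_mulVec, Matrix.mulVec_mulVec, ← (s.pow_right (2 ^ m)).eq, ← s.eq,
    ← Matrix.mulVec_mulVec, e, Matrix.mulVec_mulVec]

theorem frm_eqv {g : GG} (he : Eqv w g) (u v : V) : frm w ((g : M) *ᵥ u) ((g : M) *ᵥ v) = frm w u v := by
  rw [frm, frm, Matrix.mulVec_mulVec, ← Matrix.vecMul_transpose, ← Matrix.dotProduct_mulVec,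
    Matrix.mulVec_mulVec, ← mul_assoc, he.form]

theorem stb_oW {g : GG} {E : Subgroup GG} (he : Eqv w g) (h : Nrm g E) : Stb g (oW w E) := fun v hv a a' hd k => by
  set b := fun i => ((g⁻¹ : GG) : M) *ᵥ a i with hb
  set b' := fun i => ((g⁻¹ : GG) : M) *ᵥ a' i with hb'
  have e := hv b b' ⟨fun i => stb_fix h.symm (hd.1 i), fun i => stb_fix h.symm (hd.2.1 i),
    fun i j => by rw [← hd.2.2 i j, ← frm_eqv he, mulVec_inv_cancel, mulVec_inv_cancel]⟩ k
  have s : ∀ x : V, SemiconjBy (g : M) (br w (((g⁻¹ : GG) : M) *ᵥ x)) (br w x) := fun x => by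
    have := he.bracket (((g⁻¹ : GG) : M) *ᵥ x)
    rw [mulVec_inv_cancel] at this
    exact this
  have st : SemiconjBy (g : M) (∑ i, br w (b' i) * br w (b i) ^ 2 ^ (2 * (k : ℕ) + 2))
      (∑ i, br w (a' i) * br w (a i) ^ 2 ^ (2 * (k : ℕ) + 2)) := by
    show _ * _ = _ * _
    rw [Finset.mul_sum, Finset.sum_mul]
    exact Finset.sum_congr rfl fun i _ => ((s (a' i)).mul_right ((s (a i)).pow_right _)).eq
  rw [Matrix.mulVec_mulVec, ← st.eq, ← Matrix.mulVec_mulVec, e, Matrix.mulVec_zero]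

theorem stb_tW {g : GG} {E : Subgroup GG} (h : Nrm g E) : Stb g (tW E) := stb_span fun v hv => by
  obtain ⟨z, hz, ht, hv⟩ := hv
  refine Submodule.subset_span ⟨g * z * g⁻¹, h.1 z hz, ?_, ?_⟩
  · rw [Units.val_mul, Units.val_mul, Matrix.trace_mul_cycle, ← Units.val_mul, inv_mul_cancel,
      Units.val_one, one_mul]
    exact ht
  · rw [Units.val_mul, Units.val_mul, Matrix.mul_assoc, ← Matrix.mulVec_mulVec, ← Matrix.mulVec_mulVec,
      inv_mulVec_cancel, hv]

/-- An element moving a fixed vector out of the fixed space does not normalise. -/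
theorem not_nrm {g : GG} {E : Subgroup GG} {b : V} (hb : b ∈ fixV E) {x : GG} (hx : x ∈ E)
    (hne : (x : M) *ᵥ ((g : M) *ᵥ b) ≠ (g : M) *ᵥ b) : ¬ Nrm g E :=
  fun h => hne (stb_fix h hb x hx)

/-- The criterion: a set stable under the normaliser and under one more element, but not under all. -/
theorem not_coatom [Finite K] {G : Subgroup GG} (E : Subgroup GG) (W : Set V)
    (hN : ∀ g ∈ G, Nrm g E → Stb g W) {g₀ : GG} (hg₀ : g₀ ∈ G) (hW₀ : Stb g₀ W) (hn₀ : ¬ Nrm g₀ E)
    {g₁ : GG} (hg₁ : g₁ ∈ G) (hW₁ : ¬ Stb g₁ W) {N : Subgroup G}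
    (hle : N ≤ Subgroup.normalizer ((E.subgroupOf G : Subgroup G) : Set G)) (hE : E ≤ G) : ¬ IsCoatom N := by
  let T : Submonoid G :=
    { carrier := {g | Stb (g : GG) W}
      mul_mem' := fun {a b} ha hb v hv => by
        rw [Subgroup.coe_mul, Units.val_mul, ← Matrix.mulVec_mulVec]
        exact ha _ (hb v hv)
      one_mem' := fun v hv => by simpa using hv }
  let S : Subgroup G :=
    { T with
      inv_mem' := fun {a} ha => by
        have : a⁻¹ = a ^ (orderOf a - 1) := by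
          refine inv_eq_of_mul_eq_one_right ?_
          rw [← pow_succ', Nat.sub_add_cancel (orderOf_pos a), pow_orderOf_eq_one]
        show a⁻¹ ∈ T
        rw [this]
        exact T.pow_mem ha _ }
  have key : ∀ g : G, g ∈ Subgroup.normalizer ((E.subgroupOf G : Subgroup G) : Set G) → Nrm (g : GG) E := by
    intro g hg
    constructor
    · intro x hx
      exact (Subgroup.mem_normalizer_iff.1 hg ⟨x, hE hx⟩).1 hx
    · intro x hx
      exact (Subgroup.mem_normalizer_iff''.1 hg ⟨x, hE hx⟩).1 hx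
  intro hc
  have hlt : N < S := by
    refine lt_of_le_of_ne (fun g hg => hN g g.2 (key g (hle hg))) fun e => ?_
    have h0 : (⟨g₀, hg₀⟩ : G) ∈ S := hW₀
    rw [← e] at h0
    exact hn₀ (key ⟨g₀, hg₀⟩ (hle h0))
  have h1 : (⟨g₁, hg₁⟩ : G) ∈ S := by rw [hc.lt_iff.1 hlt]; exact Subgroup.mem_top _
  exact hW₁ h1

end Cfsg.Agent.E6Large
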