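import Cfsg.Agent.E6Large.Elems
import Cfsg.Agent.E6Large.CheckD0
import Cfsg.Agent.E6Large.CheckD1
import Cfsg.Agent.E6Large.CheckE
import Cfsg.Agent.E6Large.CheckO
import Cfsg.Agent.E6Large.CheckP0
import Cfsg.Agent.E6Five.Main

/-!
# No local subgroup for a prime above five is maximal in `2E6(2)`
-/

set_option autoImplicit false
set_option maxRecDepth 100000

namespace Cfsg.Agent.E6Large

open Cfsg.Lie Cfsg.Agent.Chev Cfsg.Agent.E6Fi22
open scoped MatrixGroups Matrix

universe u

/-- No maximal subgroup lies in the normaliser of `E`. -/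
def NotMax {G : Type*} [Group G] (E : Subgroup G) : Prop :=
  ∀ N : Subgroup G, N ≤ Subgroup.normalizer (E : Set G) → ¬ IsCoatom N

theorem NotMax.map {G : Type*} [Group G] {E : Subgroup G} (h : NotMax E) (φ : G ≃* G) :
    NotMax (E.map φ.toMonoidHom) := by
  intro N hN hc
  refine h (N.map φ.symm.toMonoidHom) ?_ ((OrderIso.isCoatom_iff φ.symm.mapSubgroup N).2 hc)
  rintro _ ⟨n, hn, rfl⟩
  refine Subgroup.mem_normalizer_iff.2 fun x => ?_
  have e := Subgroup.mem_normalizer_iff.1 (hN hn) (φ x)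
  rw [Subgroup.mem_map_equiv, MulEquiv.symm_apply_apply, Subgroup.mem_map_equiv, map_mul, map_mul,
    map_inv, MulEquiv.symm_apply_apply] at e
  exact e

/-- Reduction to the subgroups of one Sylow subgroup. -/
theorem not_coatom_normalizer {G : Type*} [Group G] [Finite G] {p : ℕ} [Fact p.Prime] {n : ℕ}
    (hd : ¬ p ^ (n + 1) ∣ Nat.card G) (Q : Subgroup G) (hQ : Nat.card Q = p ^ n)
    (h : ∀ E ≤ Q, E ≠ ⊥ → NotMax E) (P : Subgroup G) (hP : IsPGroup p P) (hP1 : P ≠ ⊥) :
    ¬ IsCoatom (Subgroup.normalizer (P : Set G)) := by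
  have hQp : IsPGroup p Q := IsPGroup.of_card hQ
  obtain ⟨S, hS⟩ := hQp.exists_le_sylow
  have hSQ : (S : Subgroup G) = Q := by
    obtain ⟨m, hm⟩ := IsPGroup.iff_card.1 S.2
    have hle : m ≤ n := by
      by_contra hlt
      exact hd ((pow_dvd_pow p (not_le.1 hlt)).trans (hm ▸ Subgroup.card_subgroup_dvd_card (S : Subgroup G)))
    refine (Subgroup.eq_of_le_of_card_ge hS ?_).symm
    rw [hQ, hm]
    exact Nat.pow_le_pow_right (Fact.out : p.Prime).pos hle
  obtain ⟨T, hT⟩ := hP.exists_le_sylow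
  obtain ⟨g, hg⟩ := MulAction.exists_smul_eq G S T
  have hTQ : (T : Subgroup G) = Q.map (MulAut.conj g).toMonoidHom := by
    rw [← hg, ← hSQ]; rfl
  set φ : G ≃* G := MulAut.conj g
  set E := P.map φ.symm.toMonoidHom with hEdef
  have hE : E ≤ Q := by
    rintro _ ⟨x, hx, rfl⟩
    obtain ⟨y, hy, rfl⟩ := (hTQ ▸ hT hx : x ∈ Q.map φ.toMonoidHom)
    show φ.symm (φ y) ∈ Q
    rwa [MulEquiv.symm_apply_apply]
  have hE1 : E ≠ ⊥ := by
    rw [hEdef, ne_eq, Subgroup.map_eq_bot_iff_of_injective _ φ.symm.injective]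
    exact hP1
  have hmap : P = E.map φ.toMonoidHom := by
    rw [hEdef, Subgroup.map_map]
    ext x
    simp
  have := (h E hE hE1).map φ
  rw [← hmap] at this
  exact this _ le_rfl

theorem zpowers_pow_mem {G : Type*} [Group G] {E : Subgroup G} {z : G} (hz : z ∈ E) (k : ℕ) :
    Subgroup.zpowers (z ^ k) ≤ E := Subgroup.zpowers_le.2 (E.pow_mem hz k)

variable {K : Type u} [Field K] [Fintype K] [CharP K 2] {w : K} (hw : w ^ 2 = w + 1)

local notation "V" => chevE6.Idx → K
local notation "M" => Matrix chevE6.Idx chevE6.Idx K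
local notation "GG" => GL chevE6.Idx K
local notation "TW" => twistedE6 K 2

include hw in
theorem notMax_of_cert (hK : Fintype.card K = 4) (E : Subgroup GG) (hE : E ≤ TW) (W : Set V)
    {P : List Nat} (hW : W = img w P)
    (hN : ∀ g : GG, Eqv w g → Nrm g E → Stb g W) {g z h : List Nat} {b c : Nat}
    (hc : moveCert P g z h b c = true) {G Z H : GG} (hG : (G : M) = toMat w g) (hGm : G ∈ TW)
    (hZ : (Z : M) = toMat w z) (hZE : Z ∈ E) (hH : (H : M) = toMat w h) (hHm : H ∈ TW)
    (hb : toVec w b ∈ fixV E) : NotMax (E.subgroupOf TW) := by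
  obtain ⟨h1, h2, h3⟩ := moveCert_spec hw hc hG hZ hH hZE hb
  rw [← hW] at h1 h3
  exact fun N hle => not_coatom E W (fun g hg => hN g (eqv_of_mem hw hK hg)) hGm h1 h2 hHm h3 hle hE

theorem four (hK : Fintype.card K = 4) (c : K) : c ^ 4 = c := hK ▸ FiniteField.pow_card c

theorem index_facts : (∀ j : Fin 9, gD.getD j 0 < 19 ∧ miD.getD j 0 < 12) ∧
    (∀ j : Fin 2, zE.getD j 0 < 19 ∧ gE.getD j 0 < 19 ∧ miE.getD j 0 < 12 ∧ lEv.getD j 0 < (bsE j).length) ∧
    (parO.getD 0 0 < 19 ∧ parO.getD 1 0 < 19 ∧ parO.getD 3 0 < 12 ∧ parO.getD 2 0 < bsO.length) ∧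
    (par0P.getD 0 0 < 19 ∧ par0P.getD 1 0 < 2 ∧ par0P.getD 3 0 < 12 ∧ par0P.getD 2 0 < bs0P.length) ∧
    (∀ j : Fin 9, lD.getD j 0 < (bs j).length) ∧ zws.getD 8 [] = [0] ∧ zE.getD 0 0 = 1 ∧ zE.getD 1 0 = 2 ∧
    parO.getD 0 0 = 3 := by
  decide +kernel

theorem mem_getD {l : List Nat} {i : Nat} (h : i < l.length) : l.getD i 0 ∈ l := by
  rw [List.getD_eq_getElem _ _ h]; exact List.getElem_mem h

include hw in
theorem notMax_d (hK : Fintype.card K = 4) (j : Fin 9) :
    NotMax ((Subgroup.zpowers (zu hw j)).subgroupOf TW) := by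
  have h : fixCert (zm j) (qf j) (pf j) (bs j) = true ∧ dCert (pf j) (bs j) (pd j) (rd j) (cd j) = true ∧
      moveCert (pd j) (am (gD.getD j 0)) (zm j) (bm (miD.getD j 0)) ((bs j).getD (lD.getD j 0) 0)
        (mcD.getD j 0) = true := by
    have h0 := d_ok0
    have h1 := d_ok1
    simp only [List.all_eq_true, Bool.and_eq_true, List.mem_cons, List.not_mem_nil, or_false] at h0 h1
    by_cases hj : (j : ℕ) < 4
    · obtain ⟨⟨a, b⟩, c⟩ := h0 j (by omega)
      exact ⟨a, b, c⟩
    · obtain ⟨⟨a, b⟩, c⟩ := h1 j (by omega)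
      exact ⟨a, b, c⟩
  obtain ⟨hf, hb, -⟩ := fixCert_spec (K := K) hw h.1
  have hfix : ∀ v : V, v ∈ fixV (Subgroup.zpowers (zu hw j)) ↔ v ∈ img w (pf j) := fun v => by
    rw [fixV_zpowers, zu_val hw j.2]; exact hf v
  have hP : colsB (pf j) (bs j) = true := by
    have := h.1; simp only [fixCert, Bool.and_eq_true] at this; exact this.2
  obtain ⟨i1, -, -, -, i5, -⟩ := index_facts
  exact notMax_of_cert hw hK _ (Subgroup.zpowers_le.2 (zu_mem hw j)) _
    (dW_eq hw hfix hP h.2.1) (fun g he hn => stb_dW he hn) h.2.2 (au_val hw (i1 j).1) (au_mem hw _)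
    (zu_val hw j.2) (Subgroup.mem_zpowers _) (bu_val hw (i1 j).2) (bu_mem hw _)
    ((hfix _).2 (hb _ (mem_getD (i5 j))))

include hw in
theorem notMax_e (hK : Fintype.card K = 4) (j : Fin 2) :
    NotMax ((Subgroup.zpowers (au hw (zE.getD j 0))).subgroupOf TW) := by
  have h := List.all_eq_true.1 e_ok j (List.mem_range.2 j.2)
  simp only [Bool.and_eq_true] at h
  obtain ⟨⟨⟨h1, h2⟩, h3⟩, h4⟩ := h
  obtain ⟨-, i2, -⟩ := index_facts
  obtain ⟨hz, hg, hm, hl⟩ := i2 j
  obtain ⟨hf, hb, -⟩ := fixCert_spec (K := K) hw h1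
  have hfix : ∀ v : V, v ∈ fixV (Subgroup.zpowers (au hw (zE.getD j 0))) ↔ v ∈ img w (pfE j) := fun v => by
    rw [fixV_zpowers, au_val hw hz]; exact hf v
  have hP : colsB (pfE j) (bsE j) = true := by
    simp only [fixCert, Bool.and_eq_true] at h1; exact h1.2
  exact notMax_of_cert hw hK _ (Subgroup.zpowers_le.2 (au_mem hw _)) _
    (eW_eq hw (four hK) hfix hP h2 h3) (fun g he hn => stb_eW _ he hn) h4 (au_val hw hg) (au_mem hw _)
    (au_val hw hz) (Subgroup.mem_zpowers _) (bu_val hw hm) (bu_mem hw _)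
    ((hfix _).2 (hb _ (mem_getD hl)))

include hw in
theorem notMax_o (hK : Fintype.card K = 4) :
    NotMax ((Subgroup.zpowers (au hw (parO.getD 0 0))).subgroupOf TW) := by
  have h := o_ok
  simp only [Bool.and_eq_true] at h
  obtain ⟨⟨⟨⟨h1, h2⟩, h3⟩, h4⟩, h5⟩ := h
  obtain ⟨-, -, ⟨hz, hg, hm, hl⟩, -⟩ := index_facts
  obtain ⟨hf, hb, -⟩ := fixCert_spec (K := K) hw h1
  have hfix : ∀ v : V, v ∈ fixV (Subgroup.zpowers (au hw (parO.getD 0 0))) ↔ v ∈ img w pfO := fun v => by
    rw [fixV_zpowers, au_val hw hz]; exact hf v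
  have hP : colsB pfO bsO = true := by
    simp only [fixCert, Bool.and_eq_true] at h1; exact h1.2
  exact notMax_of_cert hw hK _ (Subgroup.zpowers_le.2 (au_mem hw _)) _
    (oW_eq hw (four hK) hfix hP h2 h3 h4) (fun g he hn => stb_oW he hn) h5 (au_val hw hg) (au_mem hw _)
    (au_val hw hz) (Subgroup.mem_zpowers _) (bu_val hw hm) (bu_mem hw _)
    ((hfix _).2 (hb _ (mem_getD hl)))

/-- The subgroup of order 49. -/
noncomputable def P49 : Subgroup GG :=
  Subgroup.closure {au hw 4, au hw 5}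

include hw in
theorem pow_seven : au hw 4 ^ 7 = 1 ∧ au hw 5 ^ 7 = 1 := by
  have h := pow_ok
  simp only [Bool.and_eq_true] at h
  exact ⟨au_pow hw (by norm_num) h.1.1.2, au_pow hw (by norm_num) h.1.2⟩

theorem mem_P49 {z : GG} (hz : z ∈ P49 hw) : ∃ a < 7, ∃ b < 7, z = au hw 4 ^ a * au hw 5 ^ b := by
  obtain ⟨hx, hy⟩ := pow_seven hw
  have red : ∀ a b : ℕ, ∃ a' < 7, ∃ b' < 7, au hw 4 ^ a * au hw 5 ^ b = au hw 4 ^ a' * au hw 5 ^ b' :=
    fun a b => ⟨a % 7, Nat.mod_lt _ (by norm_num), b % 7, Nat.mod_lt _ (by norm_num), by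
      rw [← pow_eq_pow_mod _ hx, ← pow_eq_pow_mod _ hy]⟩
  refine Subgroup.closure_induction (p := fun z _ => ∃ a < 7, ∃ b < 7, z = au hw 4 ^ a * au hw 5 ^ b)
    ?_ ⟨0, by norm_num, 0, by norm_num, by simp⟩ ?_ ?_ hz
  · rintro _ (rfl | rfl)
    · exact ⟨1, by norm_num, 0, by norm_num, by simp⟩
    · exact ⟨0, by norm_num, 1, by norm_num, by simp⟩
  · rintro _ _ _ _ ⟨a, -, b, -, rfl⟩ ⟨c, -, d, -, rfl⟩
    have e : au hw 4 ^ a * au hw 5 ^ b * (au hw 4 ^ c * au hw 5 ^ d) = au hw 4 ^ (a + c) * au hw 5 ^ (b + d) := by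
      rw [pow_add, pow_add, mul_assoc, ← mul_assoc (au hw 5 ^ b), ((au_comm hw).pow_pow c b).symm.eq]
      simp only [mul_assoc]
    rw [e]; exact red _ _
  · rintro _ _ ⟨a, -, b, -, rfl⟩
    have e : (au hw 4 ^ a * au hw 5 ^ b)⁻¹ = au hw 4 ^ (6 * a) * au hw 5 ^ (6 * b) := by
      refine inv_eq_of_mul_eq_one_right ?_
      rw [mul_assoc, ← mul_assoc (au hw 5 ^ b), ((au_comm hw).pow_pow (6 * a) b).symm.eq, ← mul_assoc,
        ← mul_assoc, ← pow_add, mul_assoc, ← pow_add, show a + 6 * a = 7 * a by ring,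
        show b + 6 * b = 7 * b by ring, pow_mul, pow_mul, hx, hy, one_pow, one_pow, one_mul]
    rw [e]; exact red _ _

theorem P49_le : P49 hw ≤ TW := by
  refine (Subgroup.closure_le _).2 ?_
  rintro _ (rfl | rfl) <;> exact au_mem hw _

theorem zu_line (j : Fin 8) :
    zu hw j = au hw 4 ^ (lineExp j).1 * au hw 5 ^ (lineExp j).2 := by
  rw [zu, line_shape j, List.map_append, List.prod_append, List.map_replicate, List.map_replicate,
    List.prod_replicate, List.prod_replicate]

include hw in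
theorem pow_line {a b k : ℕ} (j : Fin 8) (h1 : (a * k) % 7 = (lineExp j).1) (h2 : (b * k) % 7 = (lineExp j).2) :
    (au hw 4 ^ a * au hw 5 ^ b) ^ k = zu hw j := by
  obtain ⟨hx, hy⟩ := pow_seven hw
  rw [((au_comm hw).pow_pow a b).mul_pow, ← pow_mul, ← pow_mul, zu_line, ← h1, ← h2,
    ← pow_eq_pow_mod _ hx, ← pow_eq_pow_mod _ hy]

include hw in
theorem notMax_P49 (hK : Fintype.card K = 4) : NotMax ((P49 hw).subgroupOf TW) := by
  have h := p_ok
  have h' := w_ok
  simp only [Bool.and_eq_true] at h h'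
  obtain ⟨⟨hP, hk⟩, hm⟩ := h
  obtain ⟨⟨⟨hc, hp8⟩, hl⟩, hs⟩ := h'
  obtain ⟨-, -, -, ⟨hg, hwh, hmi, hlb⟩, -⟩ := index_facts
  obtain ⟨hb, -⟩ := colsB_spec (K := K) hw hP
  have hfix : ∀ v : V, v ∈ fixV (P49 hw) ↔ v ∈ img w pf0P := fun v => by
    rw [← kerCert_spec hw hk v]
    have key : ∀ i < 2, (toMat w (addM (am (4 + i)) idM) *ᵥ v = 0 ↔ (au hw (4 + i) : M) *ᵥ v = v) := by
      intro i hi
      rw [toMat_addM (good_am _) idM_length, toMat_idM, Matrix.add_mulVec, Matrix.one_mulVec,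
        au_val hw (by omega)]
      constructor
      · intro e; funext x; exact CharTwo.add_eq_zero.1 (congrFun e x)
      · intro e; rw [e]; funext x; exact CharTwo.add_self_eq_zero _
    constructor
    · intro hv i hi
      rw [key i hi]
      exact hv _ (Subgroup.subset_closure (by interval_cases i <;> simp))
    · intro hv z hz
      have h4 := (key 0 (by norm_num)).1 (hv 0 (by norm_num))
      have h5 := (key 1 (by norm_num)).1 (hv 1 (by norm_num))
      have hle : P49 hw ≤
          { carrier := {y : GG | (y : M) *ᵥ v = v}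
            mul_mem' := fun {a b} ha hb => by
              show _ = v
              rw [Units.val_mul, ← Matrix.mulVec_mulVec, hb, ha]
            one_mem' := by simp
            inv_mem' := fun {a} ha => by
              show _ = v
              conv_lhs => rw [← ha, inv_mulVec_cancel] } := by
        refine (Subgroup.closure_le _).2 ?_
        rintro _ (rfl | rfl)
        · exact h4
        · exact h5
      exact hle hz
  have hWl : w0P.length = 78 := by
    have := hm
    simp only [moveCert, Bool.and_eq_true, beq_iff_eq] at this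
    exact this.1.1.1.1.1.1.1
  have hline : ∀ j ∈ l4, ∀ v : V, (zu hw j : M) *ᵥ v = v → v ∈ img w w0P := by
    intro j hj v hv
    have := List.all_eq_true.1 hl j hj
    simp only [Bool.and_eq_true] at this
    have hj8 : j < 8 := Nat.le_of_ble_eq_true this.1.1
    have e := mulEq_spec (K := K) hw hWl (len_of hp8 hj8) this.1.2
    have hd0 := d_ok0
    have hd1 := d_ok1
    simp only [List.all_eq_true, Bool.and_eq_true, List.mem_cons, List.not_mem_nil, or_false] at hd0 hd1
    have hfc : fixCert (zm j) (qf j) (pf j) (bs j) = true := by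
      by_cases h4 : j < 4
      · exact (hd0 j (by omega)).1.1
      · exact (hd1 j (by omega)).1.1
    rw [zu_val hw (by omega)] at hv
    have hv' : toMat w (pf j) *ᵥ v = v := ((fixCert_spec hw hfc).1 v).1 hv
    show _ = v
    rw [← hv', Matrix.mulVec_mulVec, e]
  have hW : tW (P49 hw) = img w w0P := by
    ext v
    constructor
    · intro hv
      let S : Submodule K V :=
        { carrier := img w w0P
          add_mem' := fun {a b} ha hb => by
            show _ = a + b
            rw [Matrix.mulVec_add, ha, hb]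
          zero_mem' := Matrix.mulVec_zero _
          smul_mem' := fun c a ha => by
            show _ = c • a
            rw [Matrix.mulVec_smul, ha] }
      refine (Submodule.span_le (p := S)).2 ?_ hv
      rintro u ⟨z, hz, ht, hu⟩
      obtain ⟨a, ha, b, hb', rfl⟩ := mem_P49 hw hz
      obtain ⟨Q, -, hQm, hQ⟩ := gridK_spec (K := K) hw (good_am 4) (good_am 5) grid_ok ha hb'
      rw [← au_val hw (by norm_num), ← au_val hw (by norm_num), ← Units.val_pow_eq_pow_val,
        ← Units.val_pow_eq_pow_val, ← Units.val_mul] at hQm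
      simp only [lineB, Bool.or_eq_true, Bool.and_eq_true, Bool.not_eq_true', List.any_eq_true] at hQ
      rcases hQ with ⟨t0, t1⟩ | ⟨j, hj, k, -, e1, e2⟩
      · rw [← hQm, trace_toMat, t0, t1] at ht
        simp [bv] at ht
      · have hj8 : j < 8 := by
          have := List.all_eq_true.1 hl j hj
          simp only [Bool.and_eq_true] at this
          exact Nat.le_of_ble_eq_true this.1.1
        refine hline j hj u ?_
        rw [← pow_line hw ⟨j, hj8⟩ (Nat.eq_of_beq_eq_true e1) (Nat.eq_of_beq_eq_true e2)]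
        generalize au hw 4 ^ a * au hw 5 ^ b = y at hu
        clear e1 e2
        induction k with
        | zero => simp
        | succ k ih => rw [pow_succ, Units.val_mul, ← Matrix.mulVec_mulVec, hu, ih]
    · intro hv
      have e := sumEq_spec (K := K) hw (L := (List.range 4).map fun i => (pf (l4.getD i 0), c0P i))
        (fun p hp => by
          obtain ⟨i, hi, rfl⟩ := List.mem_map.1 hp
          have hi' := List.mem_range.1 hi
          have := List.all_eq_true.1 hl _ (mem_getD (l := l4) (i := i) (by rw [l4_shape]; exact hi'))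
          simp only [Bool.and_eq_true] at this
          exact ⟨len_of hp8 (Nat.le_of_ble_eq_true this.1.1), len_of hc hi'⟩) hs
      rw [List.map_map, ← List.sum_toFinset _ (List.nodup_range ..), List.toFinset_range] at e
      rw [← hv, ← e, Matrix.sum_mulVec]
      refine Submodule.sum_mem _ fun i hi => ?_
      have hj := mem_getD (l := l4) (i := i) (by rw [l4_shape]; exact Finset.mem_range.1 hi)
      generalize hjdef : l4.getD i 0 = j at hj
      have hh := List.all_eq_true.1 hl j hj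
      simp only [Bool.and_eq_true, Bool.or_eq_true] at hh
      have hj8 : j < 8 := Nat.le_of_ble_eq_true hh.1.1
      refine Submodule.subset_span ⟨zu hw j, ?_, ?_, ?_⟩
      · rw [show zu hw j = zu hw ((⟨j, hj8⟩ : Fin 8) : ℕ) from rfl, zu_line]
        exact Subgroup.mul_mem _ (Subgroup.pow_mem _ (Subgroup.subset_closure (by simp)) _)
          (Subgroup.pow_mem _ (Subgroup.subset_closure (by simp)) _)
      · rw [zu_val hw (by omega), trace_toMat]
        intro h0
        obtain ⟨t0, t1⟩ := bv_pair_eq hw (h0.trans (by simp [bv] : (0 : K) = bv false + bv false * w))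
        rcases hh.2 with t | t
        · rw [t0] at t; simp at t
        · rw [t1] at t; simp at t
      · have hd0 := d_ok0
        have hd1 := d_ok1
        simp only [List.all_eq_true, Bool.and_eq_true, List.mem_cons, List.not_mem_nil, or_false] at hd0 hd1
        have hfc : fixCert (zm j) (qf j) (pf j) (bs j) = true := by
          by_cases h4 : j < 4
          · exact (hd0 j (by omega)).1.1
          · exact (hd1 j (by omega)).1.1
        rw [zu_val hw (by omega)]
        refine ((fixCert_spec hw hfc).1 _).2 ?_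
        have hPc : colsB (pf j) (bs j) = true := by
          simp only [fixCert, Bool.and_eq_true] at hfc; exact hfc.2
        show _ = _
        rw [Function.comp_apply, hjdef, ← Matrix.mulVec_mulVec, Matrix.mulVec_mulVec, colsB_idem hw hPc]
  have hwhich : ∀ i < 2, au hw (4 + i) ∈ P49 hw := fun i hi =>
    Subgroup.subset_closure (by interval_cases i <;> simp)
  exact notMax_of_cert hw hK _ (P49_le hw) _ hW (fun g _ hn => stb_tW hn) hm
    (au_val hw hg) (au_mem hw _) (au_val hw (by omega)) (hwhich _ hwh) (bu_val hw hmi) (bu_mem hw _)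
    ((hfix _).2 (hb _ (mem_getD hlb)))

include hw in
theorem card_P49 : Nat.card (P49 hw) = 7 ^ 2 := by
  obtain ⟨hx, hy⟩ := pow_seven hw
  haveI : Fact (Nat.Prime 7) := ⟨by norm_num⟩
  have hm := y_moves
  rw [Bool.and_eq_true] at hm
  set v : V := toVec w ((bs 1).getD 0 0)
  have hxv : (au hw 4 : M) *ᵥ v = v := by
    rw [au_val hw (by norm_num), ← toVec_mv hw (good_am 4), ← mvF_eq, Nat.eq_of_beq_eq_true hm.1]
  have hyv : (au hw 5 : M) *ᵥ v ≠ v := by
    have := neB_spec (K := K) hw hm.2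
    rwa [mvF_eq, toVec_mv hw (good_am 5), ← au_val hw (by norm_num)] at this
  have hz4 : (zu hw 1) = au hw 4 := by
    rw [show zu hw 1 = zu hw ((1 : Fin 8) : ℕ) from rfl, zu_line]; simp [lineExp]
  have hx1 : au hw 4 ≠ 1 := fun e => by
    have h0 := d_ok0
    simp only [List.all_eq_true, Bool.and_eq_true, List.mem_cons, List.not_mem_nil, or_false] at h0
    have h := (h0 1 (by omega)).2
    simp only [moveCert, Bool.and_eq_true] at h
    have := neB_spec (K := K) hw h.1.1.2
    rw [mvF_eq (zm 1), toVec_mv hw (good_zm 1), ← zu_val hw (by norm_num), hz4, e, Units.val_one,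
      Matrix.one_mulVec] at this
    exact this rfl
  have hfix : ∀ a, (((au hw 4) ^ a : GG) : M) *ᵥ v = v := fun a => by
    induction a with
    | zero => simp
    | succ a ih => rw [pow_succ, Units.val_mul, ← Matrix.mulVec_mulVec, hxv, ih]
  let f : Fin 7 × Fin 7 → P49 hw := fun p => ⟨au hw 4 ^ (p.1 : ℕ) * au hw 5 ^ (p.2 : ℕ),
    Subgroup.mul_mem _ (Subgroup.pow_mem _ (Subgroup.subset_closure (by simp)) _)
      (Subgroup.pow_mem _ (Subgroup.subset_closure (by simp)) _)⟩
  have ox : orderOf (au hw 4) = 7 := orderOf_eq_prime hx hx1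
  have oy : orderOf (au hw 5) = 7 := orderOf_eq_prime hy fun e => hyv (by rw [e, Units.val_one, Matrix.one_mulVec])
  have hf : Function.Bijective f := by
    refine ⟨fun p q e => ?_, fun z => ?_⟩
    · have e1 : au hw 4 ^ (p.1 : ℕ) * au hw 5 ^ (p.2 : ℕ) = au hw 4 ^ (q.1 : ℕ) * au hw 5 ^ (q.2 : ℕ) :=
        congrArg Subtype.val e
      have e2 : p.2 = q.2 := by
        by_contra hne
        obtain ⟨d, hd, hd7, hdv⟩ : ∃ d, 0 < d ∧ d < 7 ∧ ((au hw 5 ^ d : GG) : M) *ᵥ v = v := by
          have hne' : (p.2 : ℕ) ≠ q.2 := fun h => hne (Fin.ext h)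
          have key : ∀ (a b c d : ℕ), d ≤ b → au hw 4 ^ a * au hw 5 ^ b = au hw 4 ^ c * au hw 5 ^ d →
              ((au hw 5 ^ (b - d) : GG) : M) *ᵥ v = v := by
            intro a b c d hle h
            have : au hw 5 ^ (b - d) = (au hw 4 ^ a)⁻¹ * au hw 4 ^ c := by
              rw [eq_inv_mul_iff_mul_eq]
              apply mul_right_cancel (b := au hw 5 ^ d)
              rw [mul_assoc, ← pow_add, Nat.sub_add_cancel hle, h]
            rw [this, Units.val_mul, ← Matrix.mulVec_mulVec, hfix]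
            conv_lhs => rw [← hfix a]
            exact inv_mulVec_cancel _ _
          have := p.2.2
          have := q.2.2
          rcases le_total (q.2 : ℕ) p.2 with h | h
          · exact ⟨_, by omega, by omega, key _ _ _ _ h e1⟩
          · exact ⟨_, by omega, by omega, key _ _ _ _ h e1.symm⟩
        obtain ⟨k, hk⟩ : ∃ k, d * k % 7 = 1 := by
          interval_cases d
          exacts [⟨1, rfl⟩, ⟨4, rfl⟩, ⟨5, rfl⟩, ⟨2, rfl⟩, ⟨3, rfl⟩, ⟨6, rfl⟩]
        apply hyv
        have e3 : au hw 5 = (au hw 5 ^ d) ^ k := by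
          rw [← pow_mul, pow_eq_pow_mod _ hy, hk, pow_one]
        rw [e3]
        clear hk e3
        induction k with
        | zero => simp
        | succ k ih => rw [pow_succ, Units.val_mul, ← Matrix.mulVec_mulVec, hdv, ih]
      refine Prod.ext ?_ e2
      rw [e2, mul_left_inj] at e1
      exact Fin.ext (pow_injOn_Iio_orderOf (by simp [ox]) (by simp [ox]) e1)
    · obtain ⟨a, ha, b, hb, e⟩ := mem_P49 hw z.2
      exact ⟨(⟨a, ha⟩, ⟨b, hb⟩), Subtype.ext e.symm⟩
  rw [← Nat.card_congr (Equiv.ofBijective f hf)]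
  simp

include hw in
theorem notMax_sub49 (hK : Fintype.card K = 4) (E : Subgroup TW) (hE : E ≤ (P49 hw).subgroupOf TW)
    (hE1 : E ≠ ⊥) : NotMax E := by
  classical
  haveI : Fact (Nat.Prime 7) := ⟨by norm_num⟩
  have hcard : Nat.card ((P49 hw).subgroupOf TW) = 7 ^ 2 := by
    rw [Nat.card_congr (Subgroup.subgroupOfEquivOfLe (P49_le hw)).toEquiv, card_P49 hw]
  obtain ⟨k, hk, hEc⟩ := (Nat.dvd_prime_pow (Fact.out : Nat.Prime 7)).1 (hcard ▸ Subgroup.card_dvd_of_le hE)
  have hk0 : k ≠ 0 := fun e => hE1 (Subgroup.card_eq_one.1 (by rw [hEc, e, pow_zero]))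
  rcases (show k = 1 ∨ k = 2 by omega) with rfl | rfl
  swap
  · rw [Subgroup.eq_of_le_of_card_ge hE (by rw [hEc, hcard])]
    exact notMax_P49 hw hK
  obtain ⟨z, hzE, hz1⟩ := E.bot_or_exists_ne_one.resolve_left hE1
  obtain ⟨a, ha, b, hb, e⟩ := mem_P49 hw (z := (z : GG)) (hE hzE)
  have hab : ¬ (a = 0 ∧ b = 0) := fun ⟨h1, h2⟩ => hz1 (Subtype.ext (by rw [e, h1, h2]; simp))
  have find : ∀ a : Fin 7, ∀ b : Fin 7, ¬ ((a : ℕ) = 0 ∧ (b : ℕ) = 0) → ∃ j : Fin 8, ∃ k : Fin 7,
      ((a : ℕ) * k) % 7 = (lineExp j).1 ∧ ((b : ℕ) * k) % 7 = (lineExp j).2 := by decide +kernel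
  obtain ⟨j, k, h1, h2⟩ := find ⟨a, ha⟩ ⟨b, hb⟩ hab
  have hjE : (⟨zu hw j, zu_mem hw j⟩ : TW) ∈ E := by
    convert E.pow_mem hzE (k : ℕ) using 1
    apply Subtype.ext
    rw [SubmonoidClass.coe_pow, e]
    exact (pow_line hw j h1 h2).symm
  have hj1 : zu hw j ≠ 1 := by
    intro e1
    have : au hw 4 ^ (lineExp j).1 * au hw 5 ^ (lineExp j).2 = 1 := (zu_line hw j).symm.trans e1
    obtain ⟨hx, hy⟩ := pow_seven hw
    have h := d_ok0
    have h' := d_ok1
    simp only [List.all_eq_true, Bool.and_eq_true, List.mem_cons, List.not_mem_nil, or_false] at h h'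
    have hm : moveCert (pd j) (am (gD.getD j 0)) (zm j) (bm (miD.getD j 0)) ((bs j).getD (lD.getD j 0) 0)
        (mcD.getD j 0) = true := by
      by_cases hj : (j : ℕ) < 4
      · exact (h j (by omega)).2
      · exact (h' j (by have := j.2; omega)).2
    simp only [moveCert, Bool.and_eq_true] at hm
    have := neB_spec (K := K) hw hm.1.1.2
    rw [mvF_eq (zm j), toVec_mv hw (good_zm j), ← zu_val hw (by have := j.2; omega), e1, Units.val_one,
      Matrix.one_mulVec] at this
    exact this rfl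
  have hEeq : (Subgroup.zpowers (zu hw j)).subgroupOf TW = E := by
    rw [← show Subgroup.zpowers (⟨zu hw j, zu_mem hw j⟩ : TW) = (Subgroup.zpowers (zu hw j)).subgroupOf TW by
      ext y
      rw [Subgroup.mem_subgroupOf, Subgroup.mem_zpowers_iff, Subgroup.mem_zpowers_iff]
      simp [Subtype.ext_iff]]
    refine Subgroup.eq_of_le_of_card_ge (Subgroup.zpowers_le.2 hjE) ?_
    have ho : orderOf (⟨zu hw j, zu_mem hw j⟩ : TW) = 7 := by
      refine orderOf_eq_prime (Subtype.ext ?_) fun e1 => hj1 (congrArg Subtype.val e1)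
      obtain ⟨hx, hy⟩ := pow_seven hw
      show zu hw j ^ 7 = 1
      rw [zu_line, ((au_comm hw).pow_pow _ _).mul_pow, ← pow_mul, ← pow_mul,
        mul_comm, mul_comm (lineExp j).2, pow_mul, pow_mul, hx, hy, one_pow, one_pow, one_mul]
    rw [Nat.card_zpowers, ho, hEc, pow_one]
  rw [← hEeq]
  exact notMax_d hw hK (Fin.castLE (by norm_num) j)

include hw in
theorem prime_case (hK : Fintype.card K = 4) {p : ℕ} [Fact p.Prime] (hd : ¬ p ^ 2 ∣ Nat.card TW) {z : GG}
    (hz : z ∈ TW) (hz1 : z ≠ 1) (hzp : z ^ p = 1) (h : NotMax ((Subgroup.zpowers z).subgroupOf TW))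
    (P : Subgroup TW) (hP : IsPGroup p P) (hP1 : P ≠ ⊥) : ¬ IsCoatom (Subgroup.normalizer (P : Set TW)) := by
  have hQ : Nat.card ((Subgroup.zpowers z).subgroupOf TW) = p ^ 1 := by
    rw [Nat.card_congr (Subgroup.subgroupOfEquivOfLe (Subgroup.zpowers_le.2 hz)).toEquiv, Nat.card_zpowers,
      pow_one]
    exact orderOf_eq_prime hzp hz1
  refine not_coatom_normalizer hd _ hQ (fun E hE hE1 => ?_) P hP hP1
  obtain ⟨k, hk, hEc⟩ := (Nat.dvd_prime_pow (Fact.out : p.Prime)).1 (hQ ▸ Subgroup.card_dvd_of_le hE)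
  have hk0 : k ≠ 0 := fun e => hE1 (Subgroup.card_eq_one.1 (by rw [hEc, e, pow_zero]))
  rw [Subgroup.eq_of_le_of_card_ge hE (by rw [hEc, hQ, show k = 1 by omega])]
  exact h

include hw in
/-- The theorem. -/
theorem main (hK : Fintype.card K = 4) (p : ℕ) (hp : p.Prime) (h5 : 5 < p)
    (P : Subgroup TW) (hP : IsPGroup p P) (hP1 : P ≠ ⊥) : ¬ IsCoatom (Subgroup.normalizer (P : Set TW)) := by
  haveI : Fact p.Prime := ⟨hp⟩
  have hN := E6Five.card_twisted (K := K) hK
  have hsq : ∀ {n : ℕ}, n ∣ Nat.card TW → n ∣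
      2 ^ 36 * (2 ^ 2 - 1) * (2 ^ 5 + 1) * (2 ^ 6 - 1) * (2 ^ 8 - 1) * (2 ^ 9 + 1) * (2 ^ 12 - 1) :=
    fun h => hN ▸ dvd_mul_of_dvd_right h 3
  have hp' : p = 7 ∨ p = 11 ∨ p = 13 ∨ p = 17 ∨ p = 19 := by
    obtain ⟨k, hk⟩ := IsPGroup.iff_card.1 hP
    have hk0 : k ≠ 0 := fun e => hP1 (Subgroup.card_eq_one.1 (by rw [hk, e, pow_zero]))
    have h1 : p ∣ Nat.card TW :=
      (dvd_pow_self p hk0).trans (hk ▸ Subgroup.card_subgroup_dvd_card P)
    have h2 : p ∣ 2 ^ 36 * (3 ^ 10 * (5 ^ 2 * (7 ^ 2 * (11 * (13 * (17 * 19)))))) := by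
      convert hsq h1 using 1
      norm_num
    have hpe : ∀ {q m : ℕ}, q.Prime → p ∣ q ^ m → p = q := fun hq h =>
      (Nat.prime_dvd_prime_iff_eq hp hq).1 (hp.dvd_of_dvd_pow h)
    rcases hp.dvd_mul.1 h2 with h | h
    · have := hpe Nat.prime_two h; omega
    rcases hp.dvd_mul.1 h with h | h
    · have := hpe Nat.prime_three h; omega
    rcases hp.dvd_mul.1 h with h | h
    · have := hpe (by norm_num : Nat.Prime 5) h; omega
    rcases hp.dvd_mul.1 h with h | h
    · exact Or.inl (hpe (by norm_num : Nat.Prime 7) h)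
    rcases hp.dvd_mul.1 h with h | h
    · exact Or.inr (Or.inl ((Nat.prime_dvd_prime_iff_eq hp (by norm_num)).1 h))
    rcases hp.dvd_mul.1 h with h | h
    · exact Or.inr (Or.inr (Or.inl ((Nat.prime_dvd_prime_iff_eq hp (by norm_num)).1 h)))
    rcases hp.dvd_mul.1 h with h | h
    · exact Or.inr (Or.inr (Or.inr (Or.inl ((Nat.prime_dvd_prime_iff_eq hp (by norm_num)).1 h))))
    · exact Or.inr (Or.inr (Or.inr (Or.inr ((Nat.prime_dvd_prime_iff_eq hp (by norm_num)).1 h))))
  have hpow := pow_ok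
  simp only [Bool.and_eq_true] at hpow
  obtain ⟨⟨⟨⟨⟨⟨p0, p1⟩, p2⟩, p3⟩, -⟩, -⟩, -⟩ := hpow
  obtain ⟨i1, i2, i3, -, i5, hz8, he0, he1, ho⟩ := index_facts
  have ne_of_move : ∀ {W g z h : List Nat} {b c : Nat} {Z : GG}, z.length = 78 →
      moveCert W g z h b c = true → (Z : M) = toMat w z → Z ≠ 1 := by
    intro W g z h b c Z hzl hm hZ e
    simp only [moveCert, Bool.and_eq_true] at hm
    have := neB_spec (K := K) hw hm.1.1.2
    rw [mvF_eq z, toVec_mv hw hzl, ← hZ, e, Units.val_one, Matrix.one_mulVec] at this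
    exact this rfl
  rcases hp' with rfl | rfl | rfl | rfl | rfl
  · refine not_coatom_normalizer (n := 2) (fun h => ?_) ((P49 hw).subgroupOf TW) ?_
      (fun E hE hE1 => notMax_sub49 hw hK E hE hE1) P hP hP1
    · have := hsq h; norm_num at this
    · rw [Nat.card_congr (Subgroup.subgroupOfEquivOfLe (P49_le hw)).toEquiv, card_P49 hw]
  · have hz : zu hw 8 = au hw 0 := by rw [zu, hz8]; simp
    have hd := d_ok1
    simp only [List.all_eq_true, Bool.and_eq_true, List.mem_cons, List.not_mem_nil, or_false] at hd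
    have h := notMax_d hw hK 8
    rw [show zu hw ((8 : Fin 9) : ℕ) = au hw 0 from hz] at h
    exact prime_case hw hK (fun h => by have := hsq h; norm_num at this) (au_mem hw _)
      (ne_of_move (good_zm 8) (hd 8 (by omega)).2 (by rw [← hz]; exact zu_val hw (by norm_num)))
      (au_pow hw (by norm_num) p0) h P hP hP1
  · have he := List.all_eq_true.1 e_ok 0 (by simp)
    simp only [Bool.and_eq_true] at he
    have h := notMax_e hw hK 0
    rw [show zE.getD ((0 : Fin 2) : ℕ) 0 = 1 from he0] at h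
    refine prime_case hw hK (fun h => by have := hsq h; norm_num at this) (au_mem hw _)
      (ne_of_move (good_am (zE.getD 0 0)) he.2 ?_) (au_pow hw (by norm_num) p1) h P hP hP1
    rw [he0]; exact au_val hw (by norm_num)
  · have he := List.all_eq_true.1 e_ok 1 (by simp)
    simp only [Bool.and_eq_true] at he
    have h := notMax_e hw hK 1
    rw [show zE.getD ((1 : Fin 2) : ℕ) 0 = 2 from he1] at h
    refine prime_case hw hK (fun h => by have := hsq h; norm_num at this) (au_mem hw _)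
      (ne_of_move (good_am (zE.getD 1 0)) he.2 ?_) (au_pow hw (by norm_num) p2) h P hP hP1
    rw [he1]; exact au_val hw (by norm_num)
  · have hh := o_ok
    simp only [Bool.and_eq_true] at hh
    have h := notMax_o hw hK
    rw [ho] at h
    refine prime_case hw hK (fun h => by have := hsq h; norm_num at this) (au_mem hw _)
      (ne_of_move (good_am (parO.getD 0 0)) hh.2 ?_) (au_pow hw (by norm_num) p3) h P hP hP1
    rw [ho]; exact au_val hw (by norm_num)

end Cfsg.Agent.E6Large
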