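import Cfsg.Agent.E6Large.CertTwo

/-!
# Certificates: one more element, and one element moving the subspace
-/

set_option autoImplicit false

namespace Cfsg.Agent.E6Large

open Cfsg.Lie Cfsg.Agent.Chev Cfsg.Agent.E6Fi22
open scoped MatrixGroups Matrix

universe u

/-- Some row differs. -/
def neB (u v : Nat) : Bool := (List.range 78).any (diffB u v)

/-- `g` stabilises `W` and moves the fixed vector `b` of `z`; `h` moves column `c` of `W` out of it. -/
noncomputable def moveCert (W g z h : List Nat) (b c : Nat) : Bool :=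
  ((W.length == 78) && (g.length == 78) && (z.length == 78) && (h.length == 78)) &&
    (mulF g W fun GW => mulEq W GW GW) && neB (mvF z (mvF g b)) (mvF g b) &&
    Nat.beq (mvF W (W.getD c 0)) (W.getD c 0) &&
    neB (mvF W (mvF h (W.getD c 0))) (mvF h (W.getD c 0))

variable {K : Type u} [Field K] [CharP K 2] {w : K}

local notation "V" => chevE6.Idx → K
local notation "M" => Matrix chevE6.Idx chevE6.Idx K
local notation "GG" => GL chevE6.Idx K

theorem neB_spec (hw : w ^ 2 = w + 1) {u v : Nat} (h : neB u v = true) :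
    (toVec w u : V) ≠ toVec w v := by
  simp only [neB, List.any_eq_true] at h
  obtain ⟨r, -, hr⟩ := h
  exact toVec_ne hw hr

theorem moveCert_spec (hw : w ^ 2 = w + 1) {W g z h : List Nat} {b c : Nat}
    (hc : moveCert W g z h b c = true) {E : Subgroup GG} {G Z H : GG}
    (hG : (G : M) = toMat w g) (hZ : (Z : M) = toMat w z) (hH : (H : M) = toMat w h) (hZE : Z ∈ E)
    (hb : toVec w b ∈ fixV E) : Stb G (img w W) ∧ ¬ Nrm G E ∧ ¬ Stb H (img w W) := by
  simp only [moveCert, Bool.and_eq_true, beq_iff_eq] at hc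
  obtain ⟨⟨⟨⟨⟨⟨⟨hW, hg⟩, hz⟩, hh⟩, h1⟩, h2⟩, h3⟩, h4⟩ := hc
  refine ⟨fun v hv => ?_, not_nrm hb hZE ?_, fun hs => ?_⟩
  · rw [mulF_eq] at h1
    have e := mulEq_spec hw hW (by rw [List.length_map, hW]) h1
    rw [toMat_mul hw hg hW] at e
    show toMat w W *ᵥ ((G : M) *ᵥ v) = (G : M) *ᵥ v
    have hv' : toMat w W *ᵥ v = v := hv
    have e2 : (G : M) *ᵥ v = (toMat w g * toMat w W) *ᵥ v := by rw [← Matrix.mulVec_mulVec, hv', hG]
    rw [e2, Matrix.mulVec_mulVec, e]
  · have := neB_spec (K := K) hw h2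
    rw [mvF_eq, mvF_eq, toVec_mv hw hz, toVec_mv hw hg] at this
    rw [hG, hZ]
    exact this
  · have hv : toVec w (W.getD c 0) ∈ img w W := by
      show _ = toVec w (W.getD c 0)
      rw [← toVec_mv hw hW, ← mvF_eq, Nat.eq_of_beq_eq_true h3]
    have := neB_spec (K := K) hw h4
    rw [mvF_eq, mvF_eq, toVec_mv hw hW, toVec_mv hw hh] at this
    have h5 := hs _ hv
    rw [hH] at h5
    exact this h5

end Cfsg.Agent.E6Large
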