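import Cfsg.Agent.E6Fi22.Mat

/-!
# Packed matrices over the field with four elements: sparse products, sums of products, transposes
-/

set_option autoImplicit false

namespace Cfsg.Agent.E6Large

open Cfsg.Agent.E6Fi22 Cfsg.Lie Cfsg.Agent.Chev
open scoped Matrix

/-- `comb`, stopping at the last bit. -/
noncomputable def combF (M : List Nat) (v acc : Nat) : Nat :=
  List.rec (motive := fun _ => Nat → Nat → Nat) (fun _ acc => acc)
    (fun c _ ih v acc => cond (Nat.beq v 0) acc
      (CosetCert.force (cond (Nat.beq (Nat.mod v 2) 0) acc (Nat.xor acc c)) fun a =>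
        CosetCert.force (Nat.div v 2) fun v' => ih v' a))
    M v acc

/-- `mv`, quicker on sparse columns. -/
noncomputable def mvF (M : List Nat) (v : Nat) : Nat :=
  cond (Nat.beq (Nat.shiftRight v 78) 0) (combF M v 0) (mv M v)

/-- A product, computed completely before it is used. -/
noncomputable def mulF {α : Type} (A B : List Nat) (k : List Nat → α) : α :=
  List.rec (motive := fun _ => (List Nat → α) → α) (fun k => k [])
    (fun c _ ih k => CosetCert.force (mvF A c) fun x => ih fun l => k (x :: l)) B k

/-- A sum of two matrices, computed completely before it is used. -/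
noncomputable def addF {α : Type} (A B : List Nat) (k : List Nat → α) : α :=
  List.rec (motive := fun _ => List Nat → (List Nat → α) → α) (fun _ k => k [])
    (fun c _ ih B k => CosetCert.force (Nat.xor c (B.headD 0)) fun x => ih B.tail fun l => k (x :: l)) A B k

/-- The zero matrix. -/
def zeM : List Nat := List.replicate 78 0

/-- A sum of products, computed completely before it is used. -/
noncomputable def sumF {α : Type} (L : List (List Nat × List Nat)) (S : List Nat) (k : List Nat → α) : α :=
  List.rec (motive := fun _ => List Nat → α) (fun S => k S)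
    (fun p _ ih S => mulF p.1 p.2 fun P => addF S P ih) L S

/-- An iterated square, computed completely before it is used. -/
noncomputable def sqF {α : Type} (m : Nat) (A : List Nat) (k : List Nat → α) : α :=
  Nat.rec (motive := fun _ => List Nat → α) (fun A => k A) (fun _ ih A => mulF A A ih) m A

/-- The product of two matrices is a third one. -/
noncomputable def mulEq (A B C : List Nat) : Bool := mulF A B fun P => eqB P C

/-- Two products agree. -/
noncomputable def mulMul (A B C D : List Nat) : Bool := mulF A B fun P => mulF C D fun Q => eqB P Q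

/-- The second matrix is the transpose of the first. -/
noncomputable def trB (A B : List Nat) : Bool :=
  (List.range 78).all fun c => (List.range 78).all fun r =>
    ((A.getD c 0).testBit r == (B.getD r 0).testBit c) &&
      ((A.getD c 0).testBit (78 + r) == (B.getD r 0).testBit (78 + c))

/-- Two columns differ at row `r`. -/
def diffB (u v r : Nat) : Bool :=
  Nat.blt r 78 && ((u.testBit r != v.testBit r) || (u.testBit (78 + r) != v.testBit (78 + r)))

/-- The low and the high bit of the trace. -/
noncomputable def trBit (M : List Nat) (off : Nat) : Bool :=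
  ((List.range 78).map fun c => (M.getD c 0).testBit (off + c)).foldr (fun a b => a ^^ b) false

/-! ## Meaning -/

theorem combF_eq : ∀ (M : List Nat) (v acc : Nat), combF M v acc = comb M v acc
  | [], _, _ => rfl
  | c :: M, v, acc => by
    show cond (Nat.beq v 0) acc (CosetCert.force (cond (Nat.beq (Nat.mod v 2) 0) acc (Nat.xor acc c)) fun a =>
      CosetCert.force (Nat.div v 2) fun v' => combF M v' a) =
      CosetCert.force (cond (Nat.beq (Nat.mod v 2) 0) acc (Nat.xor acc c)) fun a =>
        CosetCert.force (Nat.div v 2) fun v' => comb M v' a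
    simp only [CosetCert.force_eq, combF_eq M]
    rcases h : Nat.beq v 0 with _ | _
    · rfl
    · obtain rfl := Nat.eq_of_beq_eq_true h
      rw [cond_true, show Nat.div 0 2 = 0 from rfl, show Nat.beq (Nat.mod 0 2) 0 = true from rfl, cond_true]
      exact (comb_zero M acc).symm
where
  comb_zero : ∀ (M : List Nat) (acc : Nat), comb M 0 acc = acc
  | [], _ => rfl
  | c :: M, acc => by
    show CosetCert.force (cond (Nat.beq (Nat.mod 0 2) 0) acc (Nat.xor acc c)) (fun a =>
      CosetCert.force (Nat.div 0 2) fun v' => comb M v' a) = acc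
    simp only [CosetCert.force_eq]
    rw [show Nat.div 0 2 = 0 from rfl, comb_zero M, show Nat.beq (Nat.mod 0 2) 0 = true from rfl, cond_true]

theorem mvF_eq (M : List Nat) (v : Nat) : mvF M v = mv M v := by
  rw [mvF]
  rcases h : Nat.beq (Nat.shiftRight v 78) 0 with _ | _
  · rfl
  · rw [cond_true, combF_eq, mv, Nat.eq_of_beq_eq_true h, combF_eq.comb_zero]
    change _ = Nat.xor (comb M v 0) (omg 0)
    rw [show omg 0 = 0 from rfl]
    exact (Nat.xor_zero _).symm

theorem mulF_eq {α : Type} (A : List Nat) : ∀ (B : List Nat) (k : List Nat → α),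
    mulF A B k = k (B.map (mv A))
  | [], _ => rfl
  | c :: B, k => by
    show CosetCert.force (mvF A c) (fun x => mulF A B fun l => k (x :: l)) = _
    rw [CosetCert.force_eq, mvF_eq, mulF_eq A B]
    rfl

theorem addF_eq {α : Type} : ∀ (A B : List Nat) (k : List Nat → α), A.length = B.length →
    addF A B k = k (addM A B)
  | [], [], _, _ => rfl
  | [], _ :: _, _, h => by simp at h
  | _ :: _, [], _, h => by simp at h
  | a :: A, b :: B, k, h => by
    show CosetCert.force (Nat.xor a b) (fun x => addF A B fun l => k (x :: l)) = _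
    rw [CosetCert.force_eq, addF_eq A B _ (by simpa using h)]
    rfl

theorem addM_length {A B : List Nat} (hA : A.length = 78) (hB : B.length = 78) :
    (addM A B).length = 78 := by
  simp [addM, hA, hB]

theorem zeM_length : zeM.length = 78 := List.length_replicate

variable {K : Type*} [Field K]

theorem toMat_zeM (w : K) : toMat w zeM = 0 := by
  ext i j
  show val w (zeM.getD (enc chevE6 j) 0) _ = 0
  rw [zeM, List.getD_eq_getElem _ _ (by rw [List.length_replicate]; exact enc_lt78 j), List.getElem_replicate,
    val_zero]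

variable [CharP K 2] {w : K} (hw : w ^ 2 = w + 1)

include hw in
theorem bv_pair_eq {a b c d : Bool} (h : (bv a : K) + bv b * w = bv c + bv d * w) : a = c ∧ b = d := by
  have hw0 : w ≠ 0 := fun e => by rw [e] at hw; simp at hw
  have hw1 : w ≠ 1 := fun e => by
    rw [e] at hw
    have := CharTwo.add_self_eq_zero (1 : K)
    rw [← hw] at this
    simp at this
  have h2 : (1 : K) + w ≠ 0 := fun e => hw1 (CharTwo.add_eq_zero.1 e).symm
  cases a <;> cases b <;> cases c <;> cases d <;>
    simp_all [bv, eq_comm (a := (0 : K)), CharTwo.add_eq_iff_eq_add]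

include hw in
theorem toVec_ne {u v r : Nat} (h : diffB u v r = true) : toVec w u ≠ toVec w v := fun e => by
  simp only [diffB, Bool.and_eq_true, Bool.or_eq_true, bne_iff_ne] at h
  obtain ⟨i, hi⟩ := exists_enc chevE6 (c := r) (by rw [dim_e6]; exact Nat.le_of_ble_eq_true h.1)
  have e2 := congrFun e i
  simp only [toVec, val, hi] at e2
  obtain ⟨h1, h2⟩ := bv_pair_eq hw e2
  rcases h.2 with h3 | h3
  · exact h3 h1
  · exact h3 h2

include hw in
theorem mulEq_spec {A B C : List Nat} (hA : A.length = 78) (hB : B.length = 78)
    (h : mulEq A B C = true) : toMat w A * toMat w B = toMat w C := by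
  rw [mulEq, mulF_eq] at h
  rw [← toMat_mul hw hA hB, eqB_spec _ C h]

include hw in
theorem mulMul_spec {A B C D : List Nat} (hA : A.length = 78) (hB : B.length = 78) (hC : C.length = 78)
    (hD : D.length = 78) (h : mulMul A B C D = true) : toMat w A * toMat w B = toMat w C * toMat w D := by
  rw [mulMul, mulF_eq, mulF_eq] at h
  rw [← toMat_mul hw hA hB, ← toMat_mul hw hC hD, eqB_spec _ _ h]

include hw in
theorem sqF_spec {α : Type} : ∀ (m : Nat) (A : List Nat) (k : List Nat → α), A.length = 78 →
    ∃ Q, Q.length = 78 ∧ toMat w Q = toMat w A ^ 2 ^ m ∧ sqF m A k = k Q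
  | 0, A, k, h => ⟨A, h, by rw [pow_zero, pow_one], rfl⟩
  | m + 1, A, k, h => by
    obtain ⟨Q, hQ, hQm, hQk⟩ := sqF_spec m (A.map (mv A)) k (by rw [List.length_map, h])
    refine ⟨Q, hQ, by rw [hQm, toMat_mul hw h h, ← pow_two, ← pow_mul, ← pow_succ'], ?_⟩
    show mulF A A (fun A' => sqF m A' k) = _
    rw [mulF_eq]
    exact hQk

/-- Pairs of matrices of the right size. -/
def Good2 (L : List (List Nat × List Nat)) : Prop := ∀ p ∈ L, p.1.length = 78 ∧ p.2.length = 78

include hw in
theorem sumF_spec {α : Type} : ∀ (L : List (List Nat × List Nat)) (S : List Nat) (k : List Nat → α),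
    Good2 L → S.length = 78 →
    ∃ Q, Q.length = 78 ∧ toMat w Q = toMat w S + (L.map fun p => toMat w p.1 * toMat w p.2).sum ∧
      sumF L S k = k Q
  | [], S, k, _, h => ⟨S, h, by simp, rfl⟩
  | p :: L, S, k, hL, h => by
    obtain ⟨ha, hb⟩ := hL p (by simp)
    have hP : (p.2.map (mv p.1)).length = 78 := by rw [List.length_map, hb]
    obtain ⟨Q, hQ, hQm, hQk⟩ := sumF_spec L (addM S (p.2.map (mv p.1))) k
      (fun q hq => hL q (List.mem_cons_of_mem _ hq)) (addM_length h hP)
    refine ⟨Q, hQ, ?_, ?_⟩
    · rw [hQm, toMat_addM h hP, toMat_mul hw ha hb, List.map_cons, List.sum_cons, add_assoc]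
    · show mulF p.1 p.2 (fun P => addF S P fun S' => sumF L S' k) = _
      rw [mulF_eq, addF_eq _ _ _ (h.trans hP.symm)]
      exact hQk

include hw in
theorem sumEq_spec {L : List (List Nat × List Nat)} (hL : Good2 L) {T : List Nat}
    (h : sumF L zeM (fun S => eqB S T) = true) :
    (L.map fun p => toMat w p.1 * toMat w p.2).sum = toMat w T := by
  obtain ⟨Q, -, hQm, hQk⟩ := sumF_spec hw L zeM (fun S => eqB S T) hL zeM_length
  rw [hQk] at h
  rw [eqB_spec Q T h, hQm, toMat_zeM, zero_add]

omit [CharP K 2] in
theorem trB_spec (w : K) {A B : List Nat} (h : trB A B = true) : toMat w B = (toMat w A)ᵀ := by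
  ext i j
  have := List.all_eq_true.1 (List.all_eq_true.1 h _ (List.mem_range.2 (enc_lt78 i))) _
    (List.mem_range.2 (enc_lt78 j))
  simp only [Bool.and_eq_true, beq_iff_eq] at this
  show val w (B.getD (enc chevE6 j) 0) (enc chevE6 i) = val w (A.getD (enc chevE6 i) 0) (enc chevE6 j)
  rw [val, val, this.1, this.2]

theorem bv_foldr (f : Nat → Bool) : ∀ l : List Nat,
    (bv ((l.map f).foldr (fun a b => a ^^ b) false) : K) = (l.map fun c => bv (f c)).sum
  | [] => by simp [bv]
  | c :: l => by rw [List.map_cons, List.foldr_cons, bv_xor, bv_foldr f l, List.map_cons, List.sum_cons]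

theorem trace_toMat (w : K) (M : List Nat) :
    (toMat w M).trace = bv (trBit M 0) + bv (trBit M 78) * w := by
  rw [trBit, trBit, bv_foldr, bv_foldr, ← List.sum_toFinset _ (List.nodup_range ..),
    ← List.sum_toFinset _ (List.nodup_range ..), List.toFinset_range, Finset.sum_mul,
    ← Finset.sum_add_distrib]
  show ∑ i, val w (M.getD (enc chevE6 i) 0) (enc chevE6 i) = _
  rw [sum_enc (fun c => val w (M.getD c 0) c)]
  refine Finset.sum_congr rfl fun c _ => ?_
  rw [val, Nat.zero_add]

end Cfsg.Agent.E6Large
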